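import Cfsg.Agent.Lib.FormRep.Model

set_option autoImplicit false

/-!
Shared facts for absorbing a prime into element orders of projective classical groups.
-/

namespace CfsgLib.FormRep

open Polynomial

variable {F : Type*} [Field F]

/-- The `x ↦ x ^ (p ^ k)` automorphism of a finite field, as an equivalence. -/
theorem exists_powEquiv (L : Type*) [Field L] [Finite L] [Algebra F L] (p : ℕ) (hp : p.Prime)
    [CharP F p] (k : ℕ) : ∃ τ : L ≃+* L, ∀ y, τ y = y ^ p ^ k := by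
  have : CharP L p := charP_of_injective_algebraMap (algebraMap F L).injective p
  have : Fact p.Prime := ⟨hp⟩
  exact ⟨iterateFrobeniusEquiv L p k, fun y => rfl⟩

/-- An irreducible polynomial has a root in an extension of degree a multiple of its own. -/
theorem exists_root_of_dvd [Finite F] {L : Type*} [Field L] [Algebra F L] [Module.Finite F L]
    {f : F[X]} (hf : Irreducible f) (h : f.natDegree ∣ Module.finrank F L) :
    ∃ x : L, aeval x f = 0 := by
  have := Fact.mk hf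
  have : Module.Finite F (AdjoinRoot f) := (AdjoinRoot.powerBasis hf.ne_zero).finite
  have : Finite (AdjoinRoot f) := Module.finite_of_finite F
  have : Finite L := Module.finite_of_finite F
  obtain ⟨ψ⟩ : Nonempty (AdjoinRoot f →ₐ[F] L) :=
    FiniteField.nonempty_algHom_of_finrank_dvd (by
      rw [(AdjoinRoot.powerBasis hf.ne_zero).finrank, AdjoinRoot.powerBasis_dim]; exact h)
  exact ⟨ψ (AdjoinRoot.root f), by rw [aeval_algHom_apply, AdjoinRoot.aeval_eq, AdjoinRoot.mk_self,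
    map_zero]⟩

variable {ι : Type*} [Fintype ι] [DecidableEq ι] {M : Adj F ι} {G : Type*} [Group G] [Finite G]

/-- The bound on `p`-parts of orders. -/
theorem Model.pow_pred_lt (W : Model M G) [Nonempty ι] (p : ℕ) (hp : p.Prime) [CharP F p]
    (x : G ⧸ Subgroup.center G) {c : ℕ} (hc : 1 ≤ c) (hx : p ^ c ∣ orderOf x) :
    p ^ (c - 1) < Fintype.card ι := by
  have := Fact.mk hp
  by_contra hle
  push Not at hle
  obtain ⟨g, rfl⟩ := QuotientGroup.mk'_surjective _ x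
  set o := orderOf g
  have ho : o ≠ 0 := (orderOf_pos g).ne'
  have hox : orderOf (Model.proj g) ∣ o := orderOf_map_dvd _ g
  set U := W.toMat (g ^ ordCompl[p] o) with hU
  have hUP : U ^ (p ^ o.factorization p) = 1 := by
    rw [hU, ← map_pow, ← pow_mul, mul_comm, Nat.ordProj_mul_ordCompl_eq_self, pow_orderOf_eq_one,
      map_one]
  have hnil : IsNilpotent (U - 1) := ⟨p ^ o.factorization p, by
    rw [sub_pow_char_pow_of_commute _ _ (Commute.one_right U), hUP, one_pow, sub_self]⟩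
  have hn : (U - 1) ^ Fintype.card ι = 0 := by
    obtain ⟨k, hk⟩ := hnil
    have hd : minpoly F (U - 1) ∣ X ^ k := minpoly.dvd F _ (by simp [hk])
    obtain ⟨j, -, hj⟩ := (dvd_prime_pow Polynomial.prime_X k).1 hd
    have he : minpoly F (U - 1) = X ^ j :=
      eq_of_monic_of_associated (minpoly.monic (Matrix.isIntegral _)) (monic_X_pow j) hj
    have hjn : j ≤ Fintype.card ι := by
      have h2 := natDegree_le_of_dvd (Matrix.minpoly_dvd_charpoly (U - 1))
        (U - 1).charpoly_monic.ne_zero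
      rwa [he, natDegree_X_pow, Matrix.charpoly_natDegree_eq_dim] at h2
    have h0 : (U - 1) ^ j = 0 := by simpa [he] using minpoly.aeval F (U - 1)
    exact pow_eq_zero_of_le hjn h0
  have hzero := pow_eq_zero_of_le hle hn
  rw [sub_pow_char_pow_of_commute _ _ (Commute.one_right U), one_pow, sub_eq_zero, hU, ← map_pow,
    ← pow_mul] at hzero
  have h1 : orderOf (Model.proj g) ∣ ordCompl[p] o * p ^ (c - 1) := orderOf_dvd_of_pow_eq_one (by
    rw [← map_pow, W.inj (hzero.trans (map_one W.toMat).symm), map_one])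
  have h2 : p ^ c ∣ p ^ (c - 1) := Nat.Coprime.dvd_of_dvd_mul_left
    (Nat.Coprime.pow_left _ (Nat.coprime_ordCompl hp ho)) (hx.trans h1)
  rw [Nat.pow_dvd_pow_iff_le_right hp.one_lt] at h2
  omega

section Arith

/-- Divisors of `lcm`s, prime power by prime power. -/
theorem pow_dvd_lcm {p b a c : ℕ} (hp : p.Prime) (h : p ^ b ∣ Nat.lcm a c) :
    p ^ b ∣ a ∨ p ^ b ∣ c := by
  rcases eq_or_ne a 0 with rfl | ha
  · exact Or.inl (dvd_zero _)
  rcases eq_or_ne c 0 with rfl | hc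
  · exact Or.inr (dvd_zero _)
  rw [hp.pow_dvd_iff_le_factorization (Nat.lcm_ne_zero ha hc), Nat.factorization_lcm ha hc,
    Finsupp.sup_apply] at h
  rcases le_sup_iff.1 h with h | h
  · exact Or.inl ((hp.pow_dvd_iff_le_factorization ha).2 h)
  · exact Or.inr ((hp.pow_dvd_iff_le_factorization hc).2 h)

/-- The `lcm` of the `p'`-parts. -/
theorem ordCompl_dvd_lcm {p a c : ℕ} (hp : p.Prime) (ha : a ≠ 0) (hc : c ≠ 0) :
    ordCompl[p] (Nat.lcm a c) ∣ Nat.lcm (ordCompl[p] a) (ordCompl[p] c) := by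
  refine (Nat.dvd_iff_prime_pow_dvd_dvd _ _).2 fun s b hs hsb => ?_
  rcases Nat.eq_zero_or_pos b with rfl | hb
  · simp
  have hsp : s ≠ p := by
    rintro rfl
    exact Nat.not_dvd_ordCompl hp (Nat.lcm_ne_zero ha hc) ((dvd_pow_self _ hb.ne').trans hsb)
  have hstrip : ∀ o, s ^ b ∣ o → s ^ b ∣ ordCompl[p] o := fun o ho =>
    Nat.Coprime.dvd_of_dvd_mul_left (m := ordProj[p] o)
      (Nat.Coprime.pow _ _ ((Nat.coprime_primes hs hp).2 hsp))
      (by rwa [Nat.ordProj_mul_ordCompl_eq_self])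
  rcases pow_dvd_lcm hs (hsb.trans (Nat.ordCompl_dvd _ p)) with h | h
  · exact (hstrip _ h).trans (Nat.dvd_lcm_left _ _)
  · exact (hstrip _ h).trans (Nat.dvd_lcm_right _ _)

theorem lcm_ordProj_ordCompl {p N : ℕ} (hp : p.Prime) (hN : N ≠ 0) :
    Nat.lcm (ordProj[p] N) (ordCompl[p] N) = N := by
  rw [Nat.Coprime.lcm_eq_mul (Nat.Coprime.pow_left _ (Nat.coprime_ordCompl hp hN)),
    Nat.ordProj_mul_ordCompl_eq_self]

/-- To add a prime `r` to the set of element orders of `L × L × L` and of `L × L`. -/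
theorem range_absorb_three {L V : Type*} [Group L] [Group V] (r : ℕ)
    (hv : ∀ v : V, orderOf v = 1 ∨ orderOf v = r)
    (h : ∀ x₁ x₂ x₃ : L, ¬ r ∣ Nat.lcm (orderOf x₁) (Nat.lcm (orderOf x₂) (orderOf x₃)) →
      ∃ y₁ y₂ y₃ : L, Nat.lcm (orderOf y₁) (Nat.lcm (orderOf y₂) (orderOf y₃)) =
        Nat.lcm (Nat.lcm (orderOf x₁) (Nat.lcm (orderOf x₂) (orderOf x₃))) r) :
    Set.range (orderOf : L × L × L × V → ℕ) = Set.range (orderOf : L × L × L → ℕ) := by
  refine Set.Subset.antisymm ?_ ?_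
  · rintro _ ⟨⟨x₁, x₂, x₃, v⟩, rfl⟩
    simp only [Prod.orderOf]
    set N := Nat.lcm (orderOf x₁) (Nat.lcm (orderOf x₂) (orderOf x₃)) with hN
    rw [show Nat.lcm (orderOf x₁) (Nat.lcm (orderOf x₂) (Nat.lcm (orderOf x₃) (orderOf v))) =
      Nat.lcm N (orderOf v) by rw [hN, Nat.lcm_assoc, Nat.lcm_assoc]]
    rcases hv v with hv1 | hvr
    · exact ⟨(x₁, x₂, x₃), by simp [Prod.orderOf, hN, hv1]⟩
    rw [hvr]
    by_cases hr : r ∣ N
    · exact ⟨(x₁, x₂, x₃), by rw [Nat.lcm_eq_left hr]; simp [Prod.orderOf, hN]⟩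
    obtain ⟨y₁, y₂, y₃, hy⟩ := h x₁ x₂ x₃ hr
    exact ⟨(y₁, y₂, y₃), by simp [Prod.orderOf, hy, hN]⟩
  · rintro _ ⟨⟨x₁, x₂, x₃⟩, rfl⟩
    exact ⟨(x₁, x₂, x₃, 1), by simp [Prod.orderOf]⟩

/-- The two factor version. -/
theorem range_absorb_two {L V : Type*} [Group L] [Group V] (r : ℕ)
    (hv : ∀ v : V, orderOf v = 1 ∨ orderOf v = r)
    (h : ∀ x₁ x₂ : L, ¬ r ∣ Nat.lcm (orderOf x₁) (orderOf x₂) →
      ∃ y₁ y₂ : L, Nat.lcm (orderOf y₁) (orderOf y₂) =
        Nat.lcm (Nat.lcm (orderOf x₁) (orderOf x₂)) r) :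
    Set.range (orderOf : L × L × V → ℕ) = Set.range (orderOf : L × L → ℕ) := by
  refine Set.Subset.antisymm ?_ ?_
  · rintro _ ⟨⟨x₁, x₂, v⟩, rfl⟩
    simp only [Prod.orderOf]
    set N := Nat.lcm (orderOf x₁) (orderOf x₂) with hN
    rw [show Nat.lcm (orderOf x₁) (Nat.lcm (orderOf x₂) (orderOf v)) = Nat.lcm N (orderOf v) by
      rw [hN, Nat.lcm_assoc]]
    rcases hv v with hv1 | hvr
    · exact ⟨(x₁, x₂), by simp [Prod.orderOf, hN, hv1]⟩
    rw [hvr]
    by_cases hr : r ∣ N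
    · exact ⟨(x₁, x₂), by rw [Nat.lcm_eq_left hr]; simp [Prod.orderOf, hN]⟩
    obtain ⟨y₁, y₂, hy⟩ := h x₁ x₂ hr
    exact ⟨(y₁, y₂), by simp [Prod.orderOf, hy, hN]⟩
  · rintro _ ⟨⟨x₁, x₂⟩, rfl⟩
    exact ⟨(x₁, x₂, 1), by simp [Prod.orderOf]⟩

theorem orderOf_multiplicative_pi {r : ℕ} (hr : r.Prime) {m : ℕ}
    (v : Multiplicative (Fin m → ZMod r)) : orderOf v = 1 ∨ orderOf v = r :=
  (Nat.dvd_prime hr).1 (orderOf_dvd_of_pow_eq_one (by
    apply Multiplicative.toAdd.injective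
    funext i; simp [toAdd_pow]))

/-- An element with prescribed order dividing a given one. -/
theorem exists_order_of_dvd {H : Type*} [Monoid H] (g : H) (hg : 0 < orderOf g) {m : ℕ}
    (h : m ∣ orderOf g) : ∃ x : H, orderOf x = m := by
  obtain ⟨k, hk⟩ := h
  refine ⟨g ^ k, ?_⟩
  rw [orderOf_pow' _ (by rintro rfl; simp [hk] at hg), hk, Nat.gcd_mul_left_left,
    Nat.mul_div_cancel _ (Nat.pos_of_ne_zero (by rintro rfl; simp [hk] at hg))]

end Arith

end CfsgLib.FormRep
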