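import Cfsg.Agent.Lib.FormRep.Adj

set_option autoImplicit false

/-!
Element orders in projective isometry groups.
-/

namespace CfsgLib.FormRep

open Polynomial

/-- A group realised as the determinant one isometries, with scalar centre. -/
structure Model {F : Type*} [Field F] {ι : Type*} [Fintype ι] [DecidableEq ι] (M : Adj F ι)
    (G : Type*) [Group G] where
  toMat : G →* Matrix ι ι F
  inj : Function.Injective toMat
  isom : ∀ g, M.ad (toMat g) * toMat g = 1 ∧ (toMat g).det = 1
  mem : ∀ A, M.ad A * A = 1 → A.det = 1 → ∃ g, toMat g = A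
  center_iff : ∀ g, g ∈ Subgroup.center G ↔ ∃ c : F, toMat g = c • 1

namespace Model

variable {F : Type*} [Field F] {ι : Type*} [Fintype ι] [DecidableEq ι] {M : Adj F ι}
  {G : Type*} [Group G] (W : Model M G)

/-- The projection. -/
abbrev proj : G →* G ⧸ Subgroup.center G := QuotientGroup.mk' (Subgroup.center G)

theorem proj_eq_one_iff (g : G) : proj g = 1 ↔ ∃ c : F, W.toMat g = c • 1 := by
  rw [QuotientGroup.mk'_apply, QuotientGroup.eq_one_iff, W.center_iff]

/-- The projective order only depends on the minimal polynomial. -/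
theorem orderOf_proj_dvd {a b : G} (h : minpoly F (W.toMat a) ∣ minpoly F (W.toMat b)) :
    orderOf (proj a) ∣ orderOf (proj b) := by
  refine orderOf_dvd_of_pow_eq_one ?_
  rw [← map_pow, W.proj_eq_one_iff]
  obtain ⟨c, hc⟩ := (W.proj_eq_one_iff _).1 ((map_pow proj b (orderOf (proj b))).trans
    (pow_orderOf_eq_one _))
  refine ⟨c, ?_⟩
  rw [map_pow] at hc ⊢
  obtain ⟨r, hr⟩ := h.trans (minpoly.dvd F (W.toMat b)
    (p := X ^ orderOf (proj b) - C c) (by
      rw [map_sub, map_pow, aeval_X, aeval_C, hc, Algebra.algebraMap_eq_smul_one, sub_self]))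
  have := congrArg (aeval (W.toMat a)) hr
  simpa [sub_eq_zero, Algebra.algebraMap_eq_smul_one] using this

variable [Nonempty ι]

/-- A nontrivial self-adjoint idempotent commuting with `g` gives an element of order `o * r`. -/
theorem exists_mul_prime (r : ℕ) (hr : r.Prime) (ζ : F) (hζ : orderOf ζ = r)
    (hζσ : M.σ ζ * ζ = 1)
    (hfix : ∀ A : Matrix ι ι F, M.ad A * A = 1 → A ^ r = 1 →
      ∃ (c : F) (e : ℕ), ¬ r ∣ e ∧ c ^ r = 1 ∧ M.σ c * c = 1 ∧ (c • A ^ e).det = 1)
    (g : G) (E : Matrix ι ι F) (hE : IsIdempotentElem E) (hE0 : E ≠ 0) (hE1 : E ≠ 1)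
    (hEad : M.ad E = E) (hgE : Commute (W.toMat g) E) (hro : ¬ r ∣ orderOf (proj g)) :
    ∃ y : G ⧸ Subgroup.center G, orderOf y = orderOf (proj g) * r := by
  set A : Matrix ι ι F := 1 + (ζ - 1) • E with hA
  have hEs : ∀ x y : F, (1 + x • E) * (1 + y • E) = 1 + (x + y + x * y) • E := fun x y => by
    rw [mul_add, add_mul, add_mul, one_mul, one_mul, mul_one, smul_mul_smul_comm, hE.eq,
      add_assoc, ← add_smul, ← add_smul]
    congr 2; ring
  have hpow : ∀ k, A ^ k = 1 + (ζ ^ k - 1) • E := by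
    intro k
    induction k with
    | zero => simp
    | succ k ih =>
      rw [pow_succ, ih, hA, hEs]
      congr 2; ring
  have hAr : A ^ r = 1 := by rw [hpow, ← hζ, pow_orderOf_eq_one]; simp
  have hAad : M.ad A * A = 1 := by
    have hz : (M.σ ζ - 1) + (ζ - 1) + (M.σ ζ - 1) * (ζ - 1) = 0 := by linear_combination hζσ
    rw [hA, M.ad_add, M.ad_one, M.ad_smul, hEad, map_sub, map_one, hEs, hz]
    simp
  obtain ⟨c, e, he, hcr, hcσ, hdet⟩ := hfix A hAad hAr
  obtain ⟨t, ht⟩ := W.mem (c • A ^ e) (by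
    rw [M.ad_smul, smul_mul_smul_comm, hcσ, M.isom_pow hAad, one_smul]) hdet
  have htne : proj t ≠ 1 := by
    rw [Ne, W.proj_eq_one_iff, ht]
    rintro ⟨d, hd⟩
    have hc0 : c ≠ 0 := fun h => by simp [h, hr.ne_zero] at hcr
    have hze : ζ ^ e - 1 ≠ 0 := sub_ne_zero.2 fun h => he (hζ ▸ orderOf_dvd_of_pow_eq_one h)
    have h1 : A ^ e = (c⁻¹ * d) • (1 : Matrix ι ι F) := by
      rw [← smul_smul, ← hd, smul_smul, inv_mul_cancel₀ hc0, one_smul]
    rw [hpow, ← eq_sub_iff_add_eq'] at h1
    set b := (ζ ^ e - 1)⁻¹ * (c⁻¹ * d - 1) with hb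
    have h2 : E = b • (1 : Matrix ι ι F) := by
      rw [hb, ← smul_smul, sub_smul, one_smul, ← h1, smul_smul, inv_mul_cancel₀ hze, one_smul]
    have hbb := hE.eq
    rw [h2, smul_mul_smul_comm, mul_one] at hbb
    have hbb' : b * b = b := by
      obtain ⟨i⟩ := ‹Nonempty ι›
      simpa using congrFun (congrFun hbb i) i
    by_cases hb0 : b = 0
    · exact hE0 (by rw [h2, hb0, zero_smul])
    · exact hE1 (by rw [h2, mul_left_cancel₀ hb0 (hbb'.trans (mul_one b).symm), one_smul])
  have : Fact r.Prime := ⟨hr⟩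
  have hot : orderOf (proj t) = r := by
    refine orderOf_eq_prime ?_ htne
    rw [← map_pow]
    refine (congrArg proj (W.inj ?_)).trans (map_one proj)
    rw [map_pow, ht, _root_.smul_pow, hcr, one_smul, ← pow_mul, mul_comm, pow_mul, hAr, one_pow,
      map_one]
  refine ⟨proj g * proj t, ?_⟩
  rw [Commute.orderOf_mul_eq_mul_orderOf_of_coprime, hot]
  · refine Commute.map (W.inj ?_) proj
    rw [map_mul, map_mul, ht]
    have hcA : Commute (W.toMat g) A := (Commute.one_right _).add_right (hgE.smul_right _)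
    exact ((hcA.pow_right e).smul_right c).eq
  · rw [hot, Nat.coprime_comm, hr.coprime_iff_not_dvd]; exact hro

/-- The semisimple part of an element: either it commutes with a nontrivial self-adjoint
idempotent, or its minimal polynomial is self-dual of one of the two basic shapes. -/
theorem dichotomy [Finite G] (p : ℕ) (hp : p.Prime) [CharP F p] (g : G) :
    (∃ E : Matrix ι ι F, IsIdempotentElem E ∧ E ≠ 0 ∧ E ≠ 1 ∧ M.ad E = E ∧
      Commute (W.toMat g) E) ∨
    ∃ sh : M.Shape, minpoly F (W.toMat (g ^ ordProj[p] (orderOf g))) = sh.poly ∧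
      sh.poly ∣ X ^ ordCompl[p] (orderOf g) - 1 := by
  set o := orderOf g
  have ho : o ≠ 0 := (orderOf_pos g).ne'
  set S := W.toMat (g ^ ordProj[p] o) with hS
  have hSN : S ^ ordCompl[p] o = 1 := by
    rw [hS, ← map_pow, ← pow_mul, Nat.ordProj_mul_ordCompl_eq_self, pow_orderOf_eq_one, map_one]
  have hN0 : ((ordCompl[p] o : ℕ) : F) ≠ 0 := by
    rw [Ne, CharP.cast_eq_zero_iff F p]; exact Nat.not_dvd_ordCompl hp ho
  have hdvd : minpoly F S ∣ X ^ ordCompl[p] o - 1 := minpoly.dvd F S (by simp [hSN])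
  have hsq : Squarefree (minpoly F S) :=
    (X_pow_sub_one_separable_iff.2 hN0).squarefree.squarefree_of_dvd hdvd
  rcases M.dichotomy (W.isom _).1 hsq with ⟨E, h1, h2, h3, h4, h5⟩ | ⟨sh, hsh⟩
  · refine Or.inl ⟨E, h1, h2, h3, h4, h5 _ ?_⟩
    rw [map_pow]
    exact (Commute.refl _).pow_right _
  · exact Or.inr ⟨sh, hsh, hsh ▸ hdvd⟩

/-- The order of the semisimple part. -/
theorem orderOf_proj_pow [Finite G] (p : ℕ) (hp : p.Prime) (g : G) :
    orderOf (proj (g ^ ordProj[p] (orderOf g))) = ordCompl[p] (orderOf (proj g)) := by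
  have ho : orderOf g ≠ 0 := (orderOf_pos g).ne'
  have hox : orderOf (proj g) ∣ orderOf g := orderOf_map_dvd _ g
  rw [map_pow, orderOf_pow]
  set x := orderOf (proj g)
  have hx0 : x ≠ 0 := (orderOf_pos _).ne'
  have hgcd : Nat.gcd x (ordProj[p] (orderOf g)) = ordProj[p] x := by
    refine Nat.dvd_antisymm ?_ (Nat.dvd_gcd (Nat.ordProj_dvd x p)
      (Nat.ordProj_dvd_ordProj_of_dvd ho hox p))
    obtain ⟨j, -, hj⟩ := (Nat.dvd_prime_pow hp).1 (Nat.gcd_dvd_right x (ordProj[p] (orderOf g)))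
    rw [hj]
    exact Nat.pow_dvd_pow p ((hp.pow_dvd_iff_le_factorization hx0).1
      (hj ▸ Nat.gcd_dvd_left x _))
  rw [hgcd]

omit [Nonempty ι] in
/-- An element of the image of an algebra with involution. -/
theorem exists_of_rep {R : Type*} [CommRing R] [Algebra F R] (Φ : R →ₐ[F] Matrix ι ι F)
    (bar : R → R) (hbar : ∀ a, M.ad (Φ a) = Φ (bar a)) {u : R} (hu : bar u * u = 1)
    (hd : (Φ u).det = 1) : ∃ g : G, W.toMat g = Φ u :=
  W.mem _ (by rw [hbar, ← map_mul, hu, map_one]) hd

omit [Nonempty ι] in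
/-- An element with the given self-dual minimal polynomial exists in the image. -/
theorem exists_of_shape {R : Type*} [CommRing R] [Algebra F R] (Φ : R →ₐ[F] Matrix ι ι F)
    (hΦ : Function.Injective Φ) (bar : R → R) (hbar : ∀ a, M.ad (Φ a) = Φ (bar a))
    {s : G} (sh : M.Shape) (hs : minpoly F (W.toMat s) = sh.poly) {u : R} (hu : bar u * u = 1)
    (hm : minpoly F u = sh.poly) :
    ∃ g : G, W.toMat g = Φ u ∧ orderOf (proj s) = orderOf (proj g) := by
  have hiso : M.ad (Φ u) * Φ u = 1 := by rw [hbar, ← map_mul, hu, map_one]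
  have hmp : minpoly F (Φ u) = sh.poly := (minpoly.algHom_eq Φ hΦ u).trans hm
  have hd : (Φ u).det = 1 := by
    rw [Matrix.det_eq_sign_charpoly_coeff, sh.charpoly_congr (W.isom s).1 hiso hs hmp,
      ← Matrix.det_eq_sign_charpoly_coeff]
    exact (W.isom s).2
  obtain ⟨g, hg⟩ := W.mem _ hiso hd
  refine ⟨g, hg, Nat.dvd_antisymm (W.orderOf_proj_dvd ?_) (W.orderOf_proj_dvd ?_)⟩ <;>
    rw [hg, hmp, hs]

omit [Nonempty ι] in
/-- The image of a torus in the projective group is cyclic. -/
theorem exists_torus [Finite G] {R L : Type*} [CommRing R] [Algebra F R] [Field L]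
    (Φ : R →ₐ[F] Matrix ι ι F) (hΦ : Function.Injective Φ) (bar : R ≃+* R)
    (hbar : ∀ a, M.ad (Φ a) = Φ (bar a)) (π : R →* L)
    (hπ : ∀ u v : R, bar u * u = 1 → bar v * v = 1 → π u = π v → u = v) :
    ∃ N : ℕ, (∀ k, k ∣ N → ∃ z : G ⧸ Subgroup.center G, orderOf z = k) ∧
      ∀ g : G, (∃ u, bar u * u = 1 ∧ W.toMat g = Φ u) → orderOf (proj g) ∣ N := by
  classical
  let C : Subgroup G :=
    { carrier := {g | ∃ u, bar u * u = 1 ∧ W.toMat g = Φ u}
      mul_mem' := by
        rintro a b ⟨u, hu, ha⟩ ⟨v, hv, hb⟩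
        refine ⟨u * v, ?_, by rw [map_mul, map_mul, ha, hb]⟩
        rw [map_mul, mul_mul_mul_comm, hu, hv, one_mul]
      one_mem' := ⟨1, by rw [map_one, one_mul], by rw [map_one, map_one]⟩
      inv_mem' := by
        rintro a ⟨u, hu, ha⟩
        refine ⟨bar u, ?_, ?_⟩
        · rw [← map_mul, hu, map_one]
        · refine (left_inv_eq_right_inv (a := W.toMat a) ?_ ?_)
          · rw [← map_mul, inv_mul_cancel, map_one]
          · rw [ha, ← map_mul, mul_comm, hu, map_one] }
  have hC : IsCyclic C := by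
    let f : C →* L :=
      { toFun := fun g => π g.2.choose
        map_one' := by
          rw [← map_one π]
          congr 1
          apply hΦ
          rw [← (Exists.choose_spec (1 : C).2).2, map_one]
          exact map_one _
        map_mul' := fun a b => by
          rw [← map_mul π]
          congr 1
          apply hΦ
          rw [← (Exists.choose_spec (a * b).2).2, map_mul, ← (Exists.choose_spec a.2).2,
            ← (Exists.choose_spec b.2).2]
          exact map_mul _ _ _ }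
    refine isCyclic_of_subgroup_isDomain f fun a b h => Subtype.ext (W.inj ?_)
    have := hπ _ _ (Exists.choose_spec a.2).1 (Exists.choose_spec b.2).1 h
    rw [(Exists.choose_spec a.2).2, (Exists.choose_spec b.2).2, this]
  let T : Subgroup (G ⧸ Subgroup.center G) := C.map proj
  have : IsCyclic T := isCyclic_of_surjective (proj.subgroupMap C)
    (MonoidHom.subgroupMap_surjective _ _)
  refine ⟨Nat.card T, fun k hk => ?_, fun g hg => ?_⟩
  · obtain ⟨v, hv⟩ := IsCyclic.exists_generator (α := T)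
    have hvo : orderOf v = Nat.card T := orderOf_eq_card_of_forall_mem_zpowers hv
    refine ⟨(v : G ⧸ Subgroup.center G) ^ (orderOf v / k), ?_⟩
    rw [← Subgroup.coe_pow, Subgroup.orderOf_coe]
    obtain ⟨j, hj⟩ := hvo ▸ hk
    have hk0 : 0 < k := Nat.pos_of_ne_zero fun h => by
      rw [h, zero_mul] at hj; exact (orderOf_pos v).ne' hj
    have hj0 : j ≠ 0 := fun h => by rw [h, mul_zero] at hj; exact (orderOf_pos v).ne' hj
    rw [hj, Nat.mul_div_cancel_left _ hk0, orderOf_pow' _ hj0, hj, Nat.gcd_mul_left_left,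
      Nat.mul_div_cancel _ (Nat.pos_of_ne_zero hj0)]
  · have hmem : proj g ∈ T := Subgroup.mem_map_of_mem _ hg
    rw [← Subgroup.orderOf_mk (proj g) hmem]
    exact orderOf_dvd_natCard _

end Model

end CfsgLib.FormRep
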