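import Cfsg.Agent.Lib.FormRep.Adj

set_option autoImplicit false

/-!
Roots of self-dual irreducible polynomials over finite fields.
-/

namespace CfsgLib.FormRep

open Polynomial

variable {F : Type*} [Field F] [Fintype F]

/-- The conjugates of a root are its Frobenius powers. -/
theorem exists_conj_pow {L : Type*} [Field L] [Algebra F L] [Finite L] {f : F[X]}
    (hf : Irreducible f) (hm : f.Monic) {x y : L} (hx : aeval x f = 0) (hy : aeval y f = 0) :
    ∃ i : ℕ, y = x ^ Fintype.card F ^ i := by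
  have h : IsConjRoot F x y := by
    rw [IsConjRoot, ← minpoly.eq_of_irreducible_of_monic hf hx hm,
      ← minpoly.eq_of_irreducible_of_monic hf hy hm]
  have : Module.Finite F L := Module.Finite.of_finite
  obtain ⟨φ, hφ⟩ := h.exists_algEquiv
  obtain ⟨i, hi⟩ := (FiniteField.bijective_frobeniusAlgEquivOfAlgebraic_pow F L).2 φ.symm
  refine ⟨i, ?_⟩
  have h2 : φ.symm x = y := φ.symm_apply_eq.2 hφ.symm
  rw [← h2, ← hi, AlgEquiv.coe_pow]
  exact congrFun (FiniteField.coe_frobeniusAlgEquivOfAlgebraic_iterate F L i.1) x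

/-- `x ^ q ^ n = x` exactly when the degree divides `n`. -/
theorem pow_eq_self_iff {L : Type*} [Field L] [Algebra F L] {f : F[X]}
    (hf : Irreducible f) (hm : f.Monic) {x : L} (hx : aeval x f = 0) {n : ℕ} :
    x ^ Fintype.card F ^ n = x ↔ f.natDegree ∣ n := by
  rw [hf.natDegree_dvd_iff_dvd_X_pow_card_pow_sub_X, Nat.card_eq_fintype_card,
    minpoly.eq_of_irreducible_of_monic hf hx hm, minpoly.dvd_iff]
  simp [sub_eq_zero]

theorem pow_pow_periodic {L : Type*} [Field L] [Algebra F L] {f : F[X]}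
    (hf : Irreducible f) (hm : f.Monic) {x : L} (hx : aeval x f = 0) (a b : ℕ) :
    x ^ Fintype.card F ^ (a + f.natDegree * b) = x ^ Fintype.card F ^ a := by
  rw [add_comm, pow_add, pow_mul, (pow_eq_self_iff hf hm hx).2 (Dvd.intro b rfl)]

variable {ι : Type*} [Fintype ι] [DecidableEq ι] {M : Adj F ι}

omit [Fintype F] in
/-- The partner factor vanishes at `τ(x)⁻¹`. -/
theorem Adj.Shape.aeval_g_eq_zero (sh : M.Shape) {L : Type*} [Field L] [Algebra F L]
    (τ : L →+* L) (hτ : ∀ c, τ (algebraMap F L c) = algebraMap F L (M.σ c)) {x : L}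
    (hx : aeval x sh.f = 0) : aeval (τ x)⁻¹ sh.g = 0 := by
  have hx0 : τ x ≠ 0 := by
    rw [Ne, map_eq_zero]
    rintro rfl
    apply sh.f0
    rwa [aeval_def, eval₂_at_zero, map_eq_zero] at hx
  have : Invertible (τ x) := invertibleOfNonzero hx0
  refine aeval_eq_zero_of_dvd_aeval_eq_zero sh.assoc.symm.dvd ?_
  rw [Adj.cr, aeval_def, ← invOf_eq_inv, eval₂_reverse_eq_zero_iff, eval₂_map]
  have hcomp : (algebraMap F L).comp M.σ.toRingHom = τ.comp (algebraMap F L) :=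
    RingHom.ext fun c => (hτ c).symm
  rw [hcomp, ← hom_eval₂, ← aeval_def, hx, map_zero]

/-- The minimal polynomial of `(x, τ(x)⁻¹)`. -/
theorem Adj.Shape.minpoly_pair (sh : M.Shape) {L : Type*} [Field L] [Algebra F L]
    [Module.Finite F L]
    (τ : L →+* L) (hτ : ∀ c, τ (algebraMap F L c) = algebraMap F L (M.σ c)) {x : L}
    (hx : aeval x sh.f = 0) : minpoly F ((x, (τ x)⁻¹) : L × L) = sh.poly := by
  have hy := sh.aeval_g_eq_zero τ hτ hx
  have hpx : aeval x sh.poly = 0 := aeval_eq_zero_of_dvd_aeval_eq_zero (sh.dvd_iff.1 dvd_rfl).1 hx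
  have hpy : aeval (τ x)⁻¹ sh.poly = 0 :=
    aeval_eq_zero_of_dvd_aeval_eq_zero (sh.dvd_iff.1 dvd_rfl).2 hy
  have hmon : sh.poly.Monic := by
    rcases sh.eq with ⟨e, he⟩ | ⟨e, he⟩ <;> rw [he]
    · exact sh.f_monic
    · exact sh.f_monic.mul sh.g_monic
  refine eq_of_monic_of_associated (minpoly.monic (IsIntegral.of_finite F _)) hmon
    (associated_of_dvd_dvd (minpoly.dvd F _ ?_) ?_)
  · rw [aeval_prod_apply, hpx, hpy]; rfl
  · have h0 := minpoly.aeval F ((x, (τ x)⁻¹) : L × L)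
    rw [aeval_prod_apply, Prod.mk_eq_zero] at h0
    rw [sh.dvd_iff, minpoly.eq_of_irreducible_of_monic sh.f_irr hx sh.f_monic,
      minpoly.eq_of_irreducible_of_monic sh.g_irr hy sh.g_monic]
    exact ⟨minpoly.dvd F _ h0.1, minpoly.dvd F _ h0.2⟩

/-- Self-dual irreducible polynomials over `F_{q^2}`: odd degree, and `x ^ q ^ (d * e) = x⁻¹`. -/
theorem Adj.Shape.unitary_root (sh : M.Shape) (hgf : sh.g = sh.f) {q : ℕ}
    (hq : Fintype.card F = q ^ 2) (hσ : ∀ c, M.σ c = c ^ q) {L : Type*} [Field L] [Algebra F L]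
    [Finite L] (τ : L →+* L) (hτ : ∀ y, τ y = y ^ q) {x : L} (hx : aeval x sh.f = 0) :
    Odd sh.f.natDegree ∧ ∀ e, Odd e → x ^ q ^ (sh.f.natDegree * e) * x = 1 := by
  set d := sh.f.natDegree
  have hf := sh.f_irr
  have hd : 0 < d := hf.natDegree_pos
  have hx0 : x ≠ 0 := by
    rintro rfl
    apply sh.f0
    rwa [aeval_def, eval₂_at_zero, map_eq_zero] at hx
  have hy := sh.aeval_g_eq_zero τ (fun c => by rw [hτ, hσ, map_pow]) hx
  rw [hgf, hτ] at hy
  obtain ⟨i, hi⟩ := exists_conj_pow hf sh.f_monic hx hy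
  rw [hq, ← pow_mul] at hi
  -- `x⁻¹ = x ^ q ^ (2 j + 1)`
  have hper : ∀ k, x ^ q ^ (k + 2 * d) = x ^ q ^ k := fun k => by
    rw [add_comm, pow_add, pow_mul, pow_mul, ← hq, (pow_eq_self_iff hf sh.f_monic hx).2 dvd_rfl]
  obtain ⟨j, hj⟩ : ∃ j, x⁻¹ = x ^ q ^ (2 * j + 1) := by
    refine ⟨i + (d - 1), ?_⟩
    have h := congrArg (fun z => z ^ q ^ (2 * (d - 1) + 1)) hi
    simp only [inv_pow, ← pow_mul, ← pow_succ', ← pow_add] at h
    rw [show 2 * (d - 1) + 1 + 1 = 0 + 2 * d by omega, hper, pow_zero, pow_one] at h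
    rw [h]
    congr 2; omega
  have hjj : x ^ Fintype.card F ^ (2 * j + 1) = x := by
    rw [hq, ← pow_mul, show 2 * (2 * j + 1) = 2 * j + 1 + (2 * j + 1) by ring, pow_add, pow_mul,
      ← hj, inv_pow, ← hj, inv_inv]
  obtain ⟨t, ht⟩ := (pow_eq_self_iff hf sh.f_monic hx).1 hjj
  have hdt : Odd d ∧ Odd t := Nat.odd_mul.1 ⟨j, ht.symm⟩
  refine ⟨hdt.1, fun e he => ?_⟩
  have hde : ∀ e, Odd e → x ^ q ^ (d * e) = x ^ q ^ d := by
    rintro e ⟨k, rfl⟩
    induction k with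
    | zero => simp
    | succ k ih => rw [show d * (2 * (k + 1) + 1) = d * (2 * k + 1) + 2 * d by ring, hper, ih]
  rw [hde e he, ← hde t hdt.2, show d * t = 2 * j + 1 from ht.symm, ← hj, inv_mul_cancel₀ hx0]

/-- Self-dual irreducible polynomials, no semilinearity: either `x = ±1` or `x ^ q ^ k = x⁻¹`. -/
theorem Adj.Shape.symplectic_root (sh : M.Shape) (hgf : sh.g = sh.f) (hσ : ∀ c, M.σ c = c)
    {L : Type*} [Field L] [Algebra F L] [Finite L] {x : L} (hx : aeval x sh.f = 0) :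
    (sh.f.natDegree = 1 ∧ x * x = 1) ∨ ∃ k, sh.f.natDegree = 2 * k ∧
      ∀ e, Odd e → x ^ Fintype.card F ^ (k * e) * x = 1 := by
  set d := sh.f.natDegree
  set q := Fintype.card F
  have hf := sh.f_irr
  have hd : 0 < d := hf.natDegree_pos
  have hx0 : x ≠ 0 := by
    rintro rfl
    apply sh.f0
    rwa [aeval_def, eval₂_at_zero, map_eq_zero] at hx
  have hy := sh.aeval_g_eq_zero (RingHom.id L) (fun c => by rw [RingHom.id_apply, hσ]) hx
  rw [hgf, RingHom.id_apply] at hy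
  obtain ⟨i, hi⟩ := exists_conj_pow hf sh.f_monic hx hy
  change x⁻¹ = x ^ q ^ i at hi
  have hii : x ^ q ^ (i + i) = x := by
    rw [pow_add, pow_mul, ← hi, inv_pow, ← hi, inv_inv]
  have hdi : d ∣ i + i := (pow_eq_self_iff hf sh.f_monic hx).1 hii
  have hone : d ∣ i → d = 1 ∧ x * x = 1 := fun h => by
    have h1 : x⁻¹ = x := hi.trans ((pow_eq_self_iff hf sh.f_monic hx).2 h)
    have h2 : x * x = 1 := by
      nth_rw 1 [← h1]; exact inv_mul_cancel₀ hx0
    refine ⟨?_, h2⟩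
    obtain ⟨c, hc⟩ : ∃ c : F, algebraMap F L c = x := by
      rcases mul_self_eq_one_iff.1 h2 with h3 | h3
      · exact ⟨1, by simp [h3]⟩
      · exact ⟨-1, by simp [h3]⟩
    have h4 : aeval x (X - C c) = 0 := by simp [hc]
    have h5 := natDegree_le_of_dvd ((minpoly.eq_of_irreducible_of_monic hf hx sh.f_monic).dvd.trans
      (minpoly.dvd F x h4)) (X_sub_C_ne_zero c)
    rw [natDegree_X_sub_C] at h5
    change d ≤ 1 at h5
    omega
  rcases Nat.even_or_odd d with ⟨k, hk⟩ | hdo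
  · right
    refine ⟨k, by omega, fun e he => ?_⟩
    obtain ⟨t, rfl⟩ : k ∣ i := by
      refine (Nat.mul_dvd_mul_iff_left two_pos).1 ?_
      rw [two_mul, two_mul, ← hk]; exact hdi
    have hto : Odd t := by
      by_contra hte
      obtain ⟨u, rfl⟩ := Nat.not_odd_iff_even.1 hte
      have := (hone ⟨u, by rw [hk]; ring⟩).1
      omega
    have hke : ∀ e, Odd e → x ^ q ^ (k * e) = x ^ q ^ k := by
      rintro e ⟨v, rfl⟩
      rw [show k * (2 * v + 1) = k + d * v by rw [hk]; ring]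
      exact pow_pow_periodic hf sh.f_monic hx k v
    rw [hke e he, ← hke t hto, ← hi, inv_mul_cancel₀ hx0]
  · left
    exact hone ((Nat.Coprime.dvd_of_dvd_mul_left (Nat.coprime_two_right.2 hdo)) (two_mul i ▸ hdi))

end CfsgLib.FormRep
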