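import Cfsg.Agent.Lib.FormRep.Rep
import Cfsg.Agent.Lib.FormRep.Model
import Cfsg.Agent.Lib.FormRep.Roots
import Cfsg.Agent.Lib.FormRep.Common
import Cfsg.Prelude.Def_Classical

set_option autoImplicit false

/-!
`Sp_{2n}(q)`, `q` odd: model, the two maximal tori, and elements of order `lcm(o, p ^ c, 2)`.
-/

namespace CfsgLib.FormRep.Symplectic

open Polynomial Module Matrix
open scoped Matrix

variable {F : Type*} [Field F] {n : ℕ}

theorem mem_iff_ad {A : Matrix (Fin n ⊕ Fin n) (Fin n ⊕ Fin n) F} :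
    A ∈ Matrix.symplecticGroup (Fin n) F ↔ (adjS F (Fin n)).ad A * A = 1 := by
  show _ ↔ -(J (Fin n) F * Aᵀ * J (Fin n) F) * A = 1
  rw [mul_eq_one_comm, SymplecticGroup.mem_iff]
  set K := J (Fin n) F with hK
  have hKK : K * K = -1 := J_squared _ _
  constructor
  · intro h
    rw [mul_neg, ← mul_assoc, ← mul_assoc, h, hKK, neg_neg]
  · intro h
    rw [mul_neg, ← mul_assoc, ← mul_assoc] at h
    have h2 := congrArg (· * K) h
    simp only [neg_mul, mul_assoc, hKK, mul_neg, mul_one, neg_neg, one_mul] at h2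
    simpa [mul_assoc] using h2

theorem center_iff (g : Matrix.symplecticGroup (Fin n) F) :
    g ∈ Subgroup.center (Matrix.symplecticGroup (Fin n) F) ↔
      ∃ c : F, (g : Matrix (Fin n ⊕ Fin n) (Fin n ⊕ Fin n) F) = c • 1 := by
  classical
  constructor
  swap
  · rintro ⟨c, hc⟩
    rw [Subgroup.mem_center_iff]
    intro h
    refine Subtype.ext ?_
    show (h : Matrix (Fin n ⊕ Fin n) (Fin n ⊕ Fin n) F) * (g : Matrix (Fin n ⊕ Fin n) (Fin n ⊕ Fin n) F) =
      (g : Matrix (Fin n ⊕ Fin n) (Fin n ⊕ Fin n) F) * (h : Matrix (Fin n ⊕ Fin n) (Fin n ⊕ Fin n) F)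
    rw [hc, Matrix.mul_smul, Matrix.smul_mul, Matrix.mul_one, Matrix.one_mul]
  intro hg
  set Z := (g : Matrix (Fin n ⊕ Fin n) (Fin n ⊕ Fin n) F) with hZ
  have hcomm : ∀ A ∈ Matrix.symplecticGroup (Fin n) F, A * Z = Z * A := fun A hA =>
    congrArg Subtype.val (Subgroup.mem_center_iff.1 hg ⟨A, hA⟩)
  have hU : ∀ S : Matrix (Fin n) (Fin n) F, Sᵀ = S →
      fromBlocks 1 S 0 1 ∈ Matrix.symplecticGroup (Fin n) F ∧
      fromBlocks 1 0 S 1 ∈ Matrix.symplecticGroup (Fin n) F := by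
    intro S hS
    constructor <;> rw [SymplecticGroup.mem_iff] <;>
      simp [J, fromBlocks_transpose, fromBlocks_multiply, hS]
  rw [← fromBlocks_toBlocks Z] at hcomm ⊢
  set A := Z.toBlocks₁₁
  set B := Z.toBlocks₁₂
  set C := Z.toBlocks₂₁
  set D := Z.toBlocks₂₂
  have hup : ∀ S : Matrix (Fin n) (Fin n) F, Sᵀ = S → A + S * C = A ∧ B + S * D = A * S + B ∧
      D = C * S + D := fun S hS => by
    have h := hcomm _ (hU S hS).1
    simp only [fromBlocks_multiply, Matrix.one_mul, Matrix.zero_mul, Matrix.mul_one, Matrix.mul_zero,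
      add_zero, zero_add] at h
    obtain ⟨h1, h2, -, h4⟩ := fromBlocks_inj.1 h
    exact ⟨h1, h2, h4⟩
  have hC : C = 0 := by
    obtain ⟨h1, -, -⟩ := hup 1 transpose_one
    simpa using h1
  have hAD : A = D := by
    obtain ⟨-, h2, -⟩ := hup 1 transpose_one
    rw [Matrix.one_mul, Matrix.mul_one, add_comm] at h2
    exact (add_right_cancel h2).symm
  have hB : B = 0 := by
    have h := hcomm _ (hU 1 transpose_one).2
    simp only [fromBlocks_multiply, Matrix.one_mul, Matrix.zero_mul, Matrix.mul_one, Matrix.mul_zero,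
      add_zero, zero_add] at h
    obtain ⟨h1, -, -, -⟩ := fromBlocks_inj.1 h
    simpa using h1
  have hAS : ∀ S : Matrix (Fin n) (Fin n) F, Sᵀ = S → A * S = S * A := fun S hS => by
    obtain ⟨-, h2, -⟩ := hup S hS
    rw [hB, zero_add, add_zero, ← hAD] at h2
    exact h2.symm
  rw [hC, hB, ← hAD]
  rcases Nat.eq_zero_or_pos n with rfl | hn
  · exact ⟨1, by ext (i | i) <;> exact i.elim0⟩
  set o : Fin n := ⟨0, hn⟩
  refine ⟨A o o, ?_⟩
  have hdiag : ∀ i j, A i j = if i = j then A o o else 0 := by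
    intro i j
    split_ifs with hij
    · subst hij
      rcases eq_or_ne i o with rfl | hio
      · rfl
      have h := congrFun (congrFun (hAS (Matrix.single i o 1 + Matrix.single o i 1) (by
        rw [transpose_add, transpose_single, transpose_single, add_comm])) i) o
      simpa [Matrix.mul_apply, Matrix.single_apply, mul_add, add_mul, Finset.sum_add_distrib,
        hio, hio.symm] using h
    · have h := congrFun (congrFun (hAS (Matrix.single j j 1) (transpose_single _ _ _)) i) j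
      simpa [Matrix.mul_apply, Matrix.single_apply, hij, Ne.symm hij] using h
  have hA : A = A o o • 1 := by
    ext i j; rw [hdiag i j]; simp [Matrix.one_apply]
  rw [← fromBlocks_one, fromBlocks_smul, smul_zero, ← hA]

/-- `Sp` as a model. -/
def model (F : Type*) [Field F] (n : ℕ) :
    Model (adjS F (Fin n)) (Matrix.symplecticGroup (Fin n) F) where
  toMat :=
    { toFun := fun g => (g : Matrix (Fin n ⊕ Fin n) (Fin n ⊕ Fin n) F)
      map_one' := rfl
      map_mul' := fun _ _ => rfl }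
  inj := fun _ _ h => Subtype.ext h
  isom g := ⟨mem_iff_ad.1 g.2, SymplecticGroup.det_eq_one g.2⟩
  mem A hA _ := ⟨⟨A, mem_iff_ad.2 hA⟩, rfl⟩
  center_iff := center_iff

theorem fix_det (A : Matrix (Fin n ⊕ Fin n) (Fin n ⊕ Fin n) F)
    (hA : (adjS F (Fin n)).ad A * A = 1) (_ : A ^ 2 = 1) :
    ∃ (c : F) (e : ℕ), ¬ 2 ∣ e ∧ c ^ 2 = 1 ∧ (adjS F (Fin n)).σ c * c = 1 ∧
      (c • A ^ e).det = 1 :=
  ⟨1, 1, by norm_num, one_pow 2, by simp [adjS], by
    rw [one_smul, pow_one]; exact SymplecticGroup.det_eq_one (mem_iff_ad.2 hA)⟩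

variable [Fintype F]

theorem exists_fieldDat (p : ℕ) (hp : p.Prime) [CharP F p] {a : ℕ} (hF : Fintype.card F = p ^ a)
    (h2 : (2 : F) ≠ 0) (k : ℕ) (hk : 1 ≤ k) :
    ∃ (L : Type) (_ : Field L) (_ : Finite L) (_ : Algebra F L) (D : Dat (RingEquiv.refl F) (-1) L),
      Module.finrank F L = 2 * k ∧ ∀ y, D.bar y = y ^ Fintype.card F ^ k := by
  classical
  have := Fact.mk hp
  have : NeZero (2 * k) := ⟨by omega⟩
  let L := FiniteField.Extension F p (2 * k)
  have hfr : Module.finrank F L = 2 * k := FiniteField.finrank_extension F p (2 * k)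
  obtain ⟨τ, hτ⟩ := exists_powEquiv (F := F) L p hp (a * k)
  set q := Fintype.card F with hqdef
  have hτq : ∀ y : L, τ y = y ^ q ^ k := fun y => by rw [hF, ← pow_mul]; exact hτ y
  have : Fintype L := Fintype.ofFinite L
  have hcard : Fintype.card L = q ^ (2 * k) := by
    rw [← Nat.card_eq_fintype_card, hqdef, ← Nat.card_eq_fintype_card]
    exact FiniteField.natCard_extension F p (2 * k)
  have hτF : ∀ c : F, τ (algebraMap F L c) = algebraMap F L c := fun c => by
    rw [hτq, ← map_pow, FiniteField.pow_card_pow]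
  have hτ2 : ∀ y : L, τ (τ y) = y := fun y => by
    rw [hτq, hτq, ← pow_mul, ← pow_add, ← two_mul, ← hcard, FiniteField.pow_card]
  obtain ⟨y, hy⟩ : ∃ y : L, τ y ≠ y := by
    by_contra hcon
    simp only [not_exists, not_not] at hcon
    obtain ⟨u, hu⟩ := IsCyclic.exists_generator (α := Lˣ)
    have hq1 : 1 < q := Fintype.one_lt_card
    have hpos : 0 < q ^ k := pow_pos (by omega) k
    have h3 : u ^ (q ^ k - 1) = 1 := by
      refine Units.ext (mul_right_cancel₀ u.ne_zero ?_)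
      rw [Units.val_pow_eq_pow_val, ← pow_succ, Nat.sub_add_cancel hpos, Units.val_one, one_mul,
        ← hτq, hcon]
    have hlt : q ^ k < q ^ (2 * k) := Nat.pow_lt_pow_right hq1 (by omega)
    have h1 : 0 < q ^ k - 1 := by
      have := Nat.le_self_pow (show k ≠ 0 by omega) q
      omega
    have h4 := Nat.le_of_dvd h1 (orderOf_dvd_of_pow_eq_one h3)
    rw [orderOf_eq_card_of_forall_mem_zpowers hu, Nat.card_units, Nat.card_eq_fintype_card,
      hcard] at h4
    omega
  obtain ⟨D, hD⟩ := Dat.exists_field (σ := RingEquiv.refl F) (ε := (-1 : F)) (fun _ => rfl)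
    (neg_one_mul (-1) |>.trans (neg_neg 1)) rfl τ hτ2 hτF ⟨y, 1, by
      simp only [RingEquiv.refl_apply, mul_one, one_smul, neg_smul]
      exact fun h => hy (add_neg_eq_zero.1 h).symm⟩
  exact ⟨L, inferInstance, inferInstance, inferInstance, D, hfr, fun y => by rw [hD, hτq]⟩

/-- The hyperbolic datum on `R × R`. -/
theorem exists_hyperDat (R : Type*) [CommRing R] [Algebra F R] (f : R →ₗ[F] F)
    (hf : ∀ a, (∀ r, f (a * r) = 0) → a = 0) :
    ∃ D : Dat (RingEquiv.refl F) (-1) (R × R), ∀ x y, D.bar (x, y) = (y, x) :=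
  ⟨Dat.hyper (fun _ => rfl) (neg_one_mul (-1) |>.trans (neg_neg 1)) rfl (RingEquiv.refl R)
    (fun _ => rfl) f hf, fun _ _ => rfl⟩

theorem exists_hyperField (p : ℕ) (hp : p.Prime) [CharP F p] (k : ℕ) (hk : 1 ≤ k) :
    ∃ (L : Type) (_ : Field L) (_ : Finite L) (_ : Algebra F L)
      (D : Dat (RingEquiv.refl F) (-1) (L × L)),
      Module.finrank F L = k ∧ ∀ x y, D.bar (x, y) = (y, x) := by
  classical
  have := Fact.mk hp
  have : NeZero k := ⟨by omega⟩
  let L := FiniteField.Extension F p k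
  obtain ⟨f, hf⟩ : ∃ f : L →ₗ[F] F, f 1 ≠ 0 := by
    by_contra hcon
    simp only [not_exists, not_not] at hcon
    exact one_ne_zero ((Module.forall_dual_apply_eq_zero_iff F (1 : L)).1 hcon)
  obtain ⟨D, hD⟩ := exists_hyperDat (F := F) L f (fun x hx => by
    by_contra h0
    have := hx x⁻¹
    rw [mul_inv_cancel₀ h0] at this
    exact hf this)
  exact ⟨L, inferInstance, inferInstance, inferInstance, D,
    FiniteField.finrank_extension F p k, hD⟩

theorem exists_torus_even_aux (h2 : (2 : F) ≠ 0) {R : Type*} [CommRing R] [Algebra F R]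
    (Φ : R →ₐ[F] Matrix (Fin n ⊕ Fin n) (Fin n ⊕ Fin n) F) (bar : R → R)
    (hbar : ∀ x, (adjS F (Fin n)).ad (Φ x) = Φ (bar x)) (hn : 1 ≤ n) {u : R} (hu : bar u * u = 1)
    (hu2 : u * u = -1) :
    ∃ g : Matrix.symplecticGroup (Fin n) F, (model F n).toMat g = Φ u ∧
      orderOf (Model.proj g) = 2 := by
  have hiso : (adjS F (Fin n)).ad (Φ u) * Φ u = 1 := by rw [hbar, ← map_mul, hu, map_one]
  refine ⟨⟨Φ u, mem_iff_ad.2 hiso⟩, rfl, orderOf_eq_prime ?_ ?_⟩
  · rw [← map_pow, (model F n).proj_eq_one_iff]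
    refine ⟨-1, ?_⟩
    rw [map_pow]
    show Φ u ^ 2 = _
    rw [sq, ← map_mul, hu2, map_neg, map_one, neg_one_smul]
  · rw [Ne, (model F n).proj_eq_one_iff]
    rintro ⟨c, hc⟩
    change Φ u = c • 1 at hc
    have h1 := hiso
    rw [hc, (adjS F (Fin n)).ad_smul, (adjS F (Fin n)).ad_one, smul_mul_smul_comm, one_mul] at h1
    have h3 : Φ (u * u) = (c * c) • 1 := by rw [map_mul, hc, smul_mul_smul_comm, one_mul]
    rw [hu2, map_neg, map_one, show c * c = (adjS F (Fin n)).σ c * c from rfl, h1] at h3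
    have := congrFun (congrFun h3 (.inl ⟨0, hn⟩)) (.inl ⟨0, hn⟩)
    simp at this
    exact h2 (by linear_combination -this)

/-- The elliptic and hyperbolic tori. -/
theorem exists_tori (hn : 1 ≤ n) (p : ℕ) (hp : p.Prime) [CharP F p] {a : ℕ}
    (hF : Fintype.card F = p ^ a) (h2 : (2 : F) ≠ 0) :
    ∃ N₁ N₂ : ℕ, (∀ k, k ∣ N₁ → ∃ z : Cfsg.PSp n F, orderOf z = k) ∧
      (∀ k, k ∣ N₂ → ∃ z : Cfsg.PSp n F, orderOf z = k) ∧ (2 ∣ N₁ ∨ 2 ∣ N₂) ∧
      ∀ g : Matrix.symplecticGroup (Fin n) F,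
        (∃ E, IsIdempotentElem E ∧ E ≠ 0 ∧ E ≠ 1 ∧ (adjS F (Fin n)).ad E = E ∧
          Commute ((model F n).toMat g) E) ∨
        ordCompl[p] (orderOf (Model.proj g)) ∣ N₁ ∨ ordCompl[p] (orderOf (Model.proj g)) ∣ N₂ := by
  classical
  have := Fact.mk hp
  set q := Fintype.card F with hqdef
  set W := model F n with hW
  have hne' : Nonempty (Fin n ⊕ Fin n) := ⟨.inl ⟨0, hn⟩⟩
  obtain ⟨L, _, _, _, D, hfr, hbarL⟩ := exists_fieldDat p hp hF h2 n hn
  obtain ⟨K, _, _, _, D', hfr', hbarK⟩ := exists_hyperField (F := F) p hp n hn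
  obtain ⟨Φ, hΦ, hΦbar⟩ := exists_rep_symplectic h2 D hfr
  obtain ⟨Ψ, hΨ, hΨbar⟩ := exists_rep_symplectic h2 D' (n := n) (by
    rw [Module.finrank_prod, hfr']; omega)
  obtain ⟨N₁, hN₁, hd₁⟩ := W.exists_torus Φ hΦ D.bar hΦbar (MonoidHom.id L) (fun _ _ _ _ h => h)
  obtain ⟨N₂, hN₂, hd₂⟩ := W.exists_torus Ψ hΨ D'.bar hΨbar (MonoidHom.fst K K) (by
    intro u v hu hv huv
    change u.1 = v.1 at huv
    obtain ⟨u1, u2⟩ := u
    obtain ⟨v1, v2⟩ := v
    dsimp at huv
    subst huv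
    rw [hbarK] at hu hv
    have hu' : u1 * u2 = 1 := congrArg Prod.snd hu
    have hv' : u1 * v2 = 1 := congrArg Prod.snd hv
    exact Prod.ext rfl (mul_left_cancel₀ (left_ne_zero_of_mul_eq_one hu') (hu'.trans hv'.symm)))
  refine ⟨N₁, N₂, hN₁, hN₂, ?_, fun g => ?_⟩
  · have hqodd : q % 2 = 1 := FiniteField.odd_card_of_char_ne_two fun h => h2 (by
      have h' : p = 2 := (ringChar.eq F p).symm.trans h
      have := CharP.cast_eq_zero F p
      rw [h'] at this
      exact_mod_cast this)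
    have hqn : q ^ n % 2 = 1 := by rw [Nat.pow_mod, hqodd]; simp
    have hi : ∀ (T : Type) [Field T] [Finite T] [Algebra F T], 4 ∣ Nat.card T - 1 →
        ∃ x : T, x ^ 4 = 1 ∧ x * x = -1 := by
      intro T _ _ _ h4
      obtain ⟨v, hv⟩ := IsCyclic.exists_generator (α := Tˣ)
      obtain ⟨x, hx⟩ := exists_order_of_dvd v (orderOf_pos v) (m := 4) (by
        rw [orderOf_eq_card_of_forall_mem_zpowers hv, Nat.card_units]; exact h4)
      have hx' : orderOf (x : T) = 4 := by rw [orderOf_units, hx]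
      have h1 : (x : T) ^ 4 = 1 := hx' ▸ pow_orderOf_eq_one _
      refine ⟨x, h1, ?_⟩
      rcases mul_self_eq_one_iff.1 (show ((x : T) * x) * (x * x) = 1 by rw [← h1]; ring) with h | h
      · exact absurd (Nat.le_of_dvd two_pos (orderOf_dvd_of_pow_eq_one
          (show (x : T) ^ 2 = 1 by rw [sq]; exact h))) (by omega)
      · exact h
    have hqn1 : 1 ≤ q ^ n := Nat.one_le_iff_ne_zero.2 (by
      intro h; rw [h] at hqn; simp at hqn)
    rcases (by omega : q ^ n % 4 = 1 ∨ q ^ n % 4 = 3) with h | h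
    · right
      obtain ⟨x, h1, hxx⟩ := hi K (by
        rw [Module.natCard_eq_pow_finrank (K := F), hfr', Nat.card_eq_fintype_card, ← hqdef]
        exact Nat.dvd_of_mod_eq_zero (by omega))
      obtain ⟨t, ht, hto⟩ := exists_torus_even_aux h2 Ψ D'.bar hΨbar hn (u := (x, -x))
        (by
          rw [hbarK]
          refine Prod.ext ?_ ?_
          · show -x * x = 1
            rw [neg_mul, hxx, neg_neg]
          · show x * -x = 1
            rw [mul_neg, hxx, neg_neg])
        (Prod.ext hxx (by show -x * -x = -1; rw [neg_mul_neg, hxx]))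
      exact hto ▸ hd₂ t ⟨_, by
        rw [hbarK]
        refine Prod.ext ?_ ?_
        · show -x * x = 1
          rw [neg_mul, hxx, neg_neg]
        · show x * -x = 1
          rw [mul_neg, hxx, neg_neg], ht⟩
    · left
      have hd4 : 4 ∣ q ^ n + 1 := Nat.dvd_of_mod_eq_zero (by omega)
      obtain ⟨x, h1, hxx⟩ := hi L (by
        rw [Module.natCard_eq_pow_finrank (K := F), hfr, Nat.card_eq_fintype_card, mul_comm, pow_mul,
          ← hqdef]
        refine hd4.trans ⟨q ^ n - 1, ?_⟩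
        rw [← Nat.sq_sub_sq (q ^ n) 1, one_pow])
      have hu : D.bar x * x = 1 := by
        obtain ⟨j, hj⟩ := hd4
        rw [hbarL, ← pow_succ, hj, pow_mul, h1, one_pow]
      obtain ⟨t, ht, hto⟩ := exists_torus_even_aux h2 Φ D.bar hΦbar hn hu hxx
      exact hto ▸ hd₁ t ⟨_, hu, ht⟩
  rcases W.dichotomy p hp g with h | ⟨sh, hs, -⟩
  · exact Or.inl h
  right
  set s := g ^ ordProj[p] (orderOf g)
  obtain ⟨e, he⟩ := sh.charpoly_eq (W.isom s).1 hs
  have hdeg := congrArg natDegree he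
  rw [Matrix.charpoly_natDegree_eq_dim, Fintype.card_sum, Fintype.card_fin, natDegree_pow] at hdeg
  rw [← Model.orderOf_proj_pow p hp g]
  have hhyp : sh.f.natDegree ∣ n → orderOf (Model.proj s) ∣ N₂ := by
    intro hd
    obtain ⟨x, hx⟩ := exists_root_of_dvd (L := K) sh.f_irr (hfr'.symm ▸ hd)
    have hx0 : x ≠ 0 := by
      rintro rfl
      apply sh.f0
      rwa [aeval_def, eval₂_at_zero, map_eq_zero] at hx
    have hu : D'.bar (x, x⁻¹) * (x, x⁻¹) = 1 := by
      rw [hbarK]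
      exact Prod.ext (inv_mul_cancel₀ hx0) (mul_inv_cancel₀ hx0)
    obtain ⟨t, ht, hto⟩ := W.exists_of_shape Ψ hΨ D'.bar hΨbar sh hs hu
      (sh.minpoly_pair (RingHom.id K) (fun _ => rfl) hx)
    rw [hto]
    exact hd₂ t ⟨_, hu, ht⟩
  rcases sh.eq with ⟨hgf, hpoly⟩ | ⟨hgf, hpoly⟩
  swap
  · rw [hpoly, sh.f_monic.natDegree_mul sh.g_monic, sh.deg] at hdeg
    refine Or.inr (hhyp ⟨e, ?_⟩)
    rw [← two_mul, ← two_mul, mul_left_comm] at hdeg
    exact (Nat.eq_of_mul_eq_mul_left two_pos (hdeg.trans (by ring))).trans (mul_comm _ _) |>.trans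
      (mul_comm _ _)
  rw [hpoly] at hdeg
  have := Fact.mk sh.f_irr
  have : Module.Finite F (AdjoinRoot sh.f) := (AdjoinRoot.powerBasis sh.f_irr.ne_zero).finite
  have : Finite (AdjoinRoot sh.f) := Module.finite_of_finite F
  rcases sh.symplectic_root hgf (fun _ => rfl) (x := AdjoinRoot.root sh.f)
    (by rw [AdjoinRoot.aeval_eq, AdjoinRoot.mk_self]) with ⟨hd1, -⟩ | ⟨k, hk, -⟩
  · exact Or.inr (hhyp (hd1 ▸ one_dvd n))
  rw [hk] at hdeg
  rcases Nat.even_or_odd e with ⟨j, hj⟩ | heo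
  · refine Or.inr (hhyp ⟨j, ?_⟩)
    rw [hk]; subst hj
    refine Nat.eq_of_mul_eq_mul_left two_pos ?_
    rw [two_mul n, hdeg]; ring
  left
  have hnk : n = k * e := Nat.eq_of_mul_eq_mul_left two_pos (by rw [two_mul n, hdeg]; ring)
  obtain ⟨x, hx⟩ := exists_root_of_dvd (L := L) sh.f_irr
    (by rw [hfr, hk]; exact mul_dvd_mul_left 2 ⟨e, hnk⟩)
  have hu : D.bar x * x = 1 := by
    rcases sh.symplectic_root hgf (fun _ => rfl) hx with ⟨hd1, -⟩ | ⟨k', hk', hroot⟩
    · omega
    have hkk : k' = k := by omega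
    subst hkk
    rw [hbarL]
    exact (congrArg (fun m => x ^ q ^ m * x = 1) hnk).mpr (hroot e heo)
  have hm : minpoly F x = sh.poly := by
    rw [hpoly]; exact (minpoly.eq_of_irreducible_of_monic sh.f_irr hx sh.f_monic).symm
  obtain ⟨t, ht, hto⟩ := W.exists_of_shape Φ hΦ D.bar hΦbar sh hs hu hm
  rw [hto]
  exact hd₁ t ⟨_, hu, ht⟩

omit [Fintype F] in
/-- A unipotent commuting with a semisimple isometry of self-dual shape has small Jordan blocks. -/
theorem shape_bound {ι : Type*} [Fintype ι] [DecidableEq ι] {M : Adj F ι} (sh : M.Shape)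
    {S U : Matrix ι ι F} (hS : M.ad S * S = 1) (hs : minpoly F S = sh.poly)
    (hU : M.ad U * U = 1) (hSU : Commute S U) (hnil : IsNilpotent (U - 1)) {j : ℕ}
    (hj : (U - 1) ^ j ≠ 0) : (j + 1) * sh.poly.natDegree ≤ Fintype.card ι := by
  classical
  obtain ⟨J, hjJ, hJ0, hJ1⟩ : ∃ J, j ≤ J ∧ (U - 1) ^ J ≠ 0 ∧ (U - 1) ^ (J + 1) = 0 := by
    have hex : ∃ k, (U - 1) ^ k = 0 := hnil
    have h1 := Nat.find_spec hex
    have h2 : j < Nat.find hex := by
      by_contra hle
      exact hj (pow_eq_zero_of_le (not_lt.1 hle) h1)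
    exact ⟨Nat.find hex - 1, by omega, Nat.find_min hex (by omega),
      by rwa [Nat.sub_add_cancel (by omega)]⟩
  refine le_trans (Nat.mul_le_mul_right _ (Nat.succ_le_succ hjJ)) ?_
  set N := U - 1 with hN
  set T := N ^ J with hT
  have hNp : ∀ q : F[X], Commute (aeval S q) N := by
    intro q
    have hSN : Commute S N := hSU.sub_right (Commute.one_right S)
    induction q using Polynomial.induction_on' with
    | add a b ha hb => rw [map_add]; exact ha.add_left hb
    | monomial k c =>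
      rw [aeval_monomial]
      exact (Algebra.commute_algebraMap_left c N).mul_left (hSN.pow_left k)
  have hTp : ∀ q : F[X], Commute (aeval S q) T := fun q => (hNp q).pow_right J
  -- `T` is not killed by either factor
  have hkill : ∀ f g : F[X], Associated g (M.cr f) → T * aeval S f = 0 → T * aeval S g = 0 := by
    intro f g hfg h
    have hadN : M.ad N = -(M.ad U) * N := by
      rw [hN, M.ad_sub, M.ad_one, neg_mul, mul_sub, mul_one, hU]; abel
    have hcUN : Commute (-(M.ad U)) N := by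
      refine Commute.neg_left (Commute.sub_right ?_ (Commute.one_right _))
      show M.ad U * U = U * M.ad U
      rw [hU, M.mul_ad hU]
    have h1 : T * M.ad (aeval S f) = 0 := by
      have h2 := congrArg M.ad ((hTp f).eq.trans h)
      rw [M.ad_mul, M.ad_zero, hT, M.ad_pow, hadN, hcUN.mul_pow, ← hT, mul_assoc] at h2
      have h3 : IsUnit ((-(M.ad U)) ^ J) :=
        (IsUnit.neg (⟨⟨M.ad U, U, hU, M.mul_ad hU⟩, rfl⟩ : IsUnit (M.ad U))).pow J
      exact h3.mul_right_eq_zero.1 h2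
    obtain ⟨u, hu⟩ := hfg.symm
    rw [← hu, map_mul, M.aeval_cr hS]
    have hTS : Commute T (S ^ f.natDegree) := by
      have := (hTp (X ^ f.natDegree)).symm
      rwa [map_pow, aeval_X] at this
    rw [← mul_assoc, ← mul_assoc, hTS.eq, mul_assoc _ T, h1, mul_zero, zero_mul]
  -- vectors whose annihilator is irreducible
  have hann : ∀ (g h : F[X]) (z : ι → F), Irreducible g → z ≠ 0 → aeval S g *ᵥ z = 0 →
      aeval S h *ᵥ z = 0 → g ∣ h := by
    intro g h z hg hz hgz hhz
    by_contra hnd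
    obtain ⟨a, b, hab⟩ := (hg.coprime_iff_not_dvd).2 hnd
    refine hz ?_
    have h1 : aeval S (a * g + b * h) *ᵥ z = z := by rw [hab, map_one, Matrix.one_mulVec]
    rw [map_add, map_mul, map_mul, Matrix.add_mulVec, ← Matrix.mulVec_mulVec, ← Matrix.mulVec_mulVec,
      hgz, hhz, Matrix.mulVec_zero, Matrix.mulVec_zero, add_zero] at h1
    exact h1.symm
  have hvec : ∀ A : Matrix ι ι F, A ≠ 0 → ∃ v, A *ᵥ v ≠ 0 := fun A hA => by
    by_contra hcon
    simp only [not_exists, not_not] at hcon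
    exact hA (Matrix.ext_of_mulVec_single fun i => by rw [hcon, Matrix.zero_mulVec])
  obtain ⟨v, hv⟩ : ∃ v : ι → F, ∀ h : F[X], aeval S h *ᵥ (T *ᵥ v) = 0 → sh.poly ∣ h := by
    rcases sh.eq with ⟨hgf, hp⟩ | ⟨hgf, hp⟩
    · obtain ⟨v, hv⟩ := hvec T hJ0
      refine ⟨v, fun h hh => hp ▸ hann sh.f h _ sh.f_irr hv ?_ hh⟩
      rw [← hp, ← hs, minpoly.aeval, Matrix.zero_mulVec]
    · obtain ⟨a, b, hab⟩ : IsCoprime sh.f sh.g := (sh.f_irr.coprime_iff_not_dvd).2 fun hdd =>
        hgf (eq_of_monic_of_associated sh.g_monic sh.f_monic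
          (sh.f_irr.associated_of_dvd sh.g_irr hdd).symm)
      have hgf' : Associated sh.f (M.cr sh.g) := by
        have := (M.cr_associated sh.assoc).symm
        rwa [M.cr_cr sh.f0] at this
      have hboth : T * aeval S sh.f = 0 → T * aeval S sh.g = 0 → False := fun h1 h2 => hJ0 (by
        have h3 : T * aeval S (a * sh.f + b * sh.g) = T := by rw [hab, map_one, mul_one]
        rw [mul_comm a, mul_comm b, map_add, map_mul, map_mul, mul_add, ← mul_assoc, ← mul_assoc,
          h1, h2, zero_mul, zero_mul, add_zero] at h3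
        exact h3.symm)
      obtain ⟨v₁, hv₁⟩ := hvec (T * aeval S sh.g) fun h => hboth (hkill _ _ hgf' h) h
      obtain ⟨v₂, hv₂⟩ := hvec (T * aeval S sh.f) fun h => hboth h (hkill _ _ sh.assoc h)
      refine ⟨aeval S sh.g *ᵥ v₁ + aeval S sh.f *ᵥ v₂, fun h hh => ?_⟩
      have hfg0 : aeval S (sh.f * sh.g) = 0 := by rw [← hp, ← hs, minpoly.aeval]
      have hz1 : aeval S sh.f *ᵥ ((T * aeval S sh.g) *ᵥ v₁) = 0 := by
        rw [Matrix.mulVec_mulVec, ← mul_assoc, (hTp sh.f).eq, mul_assoc, ← map_mul, hfg0, mul_zero,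
          Matrix.zero_mulVec]
      have hz2 : aeval S sh.g *ᵥ ((T * aeval S sh.f) *ᵥ v₂) = 0 := by
        rw [Matrix.mulVec_mulVec, ← mul_assoc, (hTp sh.g).eq, mul_assoc, ← map_mul, mul_comm,
          hfg0, mul_zero, Matrix.zero_mulVec]
      rw [Matrix.mulVec_add T, Matrix.mulVec_mulVec, Matrix.mulVec_mulVec] at hh
      rw [sh.dvd_iff]
      have hmul : ∀ q : F[X], aeval S (q * h) *ᵥ ((T * aeval S sh.g) *ᵥ v₁) +
          aeval S (q * h) *ᵥ ((T * aeval S sh.f) *ᵥ v₂) = 0 := fun q => by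
        rw [← Matrix.mulVec_add, map_mul, ← Matrix.mulVec_mulVec, hh, Matrix.mulVec_zero]
      constructor
      · have h1 := hmul sh.g
        rw [mul_comm sh.g, map_mul, ← Matrix.mulVec_mulVec ((T * aeval S sh.f) *ᵥ v₂), hz2,
          Matrix.mulVec_zero, add_zero, ← map_mul] at h1
        refine (sh.f_irr.prime.dvd_or_dvd (hann sh.f _ _ sh.f_irr hv₁ hz1 h1)).resolve_right
          fun hd => hgf (eq_of_monic_of_associated sh.g_monic sh.f_monic
            (sh.f_irr.associated_of_dvd sh.g_irr hd).symm)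
      · have h1 := hmul sh.f
        rw [mul_comm sh.f, map_mul, ← Matrix.mulVec_mulVec ((T * aeval S sh.g) *ᵥ v₁), hz1,
          Matrix.mulVec_zero, zero_add, ← map_mul] at h1
        refine (sh.g_irr.prime.dvd_or_dvd (hann sh.g _ _ sh.g_irr hv₂ hz2 h1)).resolve_right
          fun hd => hgf (eq_of_monic_of_associated sh.g_monic sh.f_monic
            (sh.g_irr.associated_of_dvd sh.f_irr hd))
  -- independence
  have hli : LinearIndependent F (fun x : Fin (J + 1) × Fin sh.poly.natDegree =>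
      (N ^ (x.1 : ℕ) * S ^ (x.2 : ℕ)) *ᵥ v) := by
    rw [Fintype.linearIndependent_iff]
    intro c hc
    let h : Fin (J + 1) → F[X] := fun i => ∑ l : Fin sh.poly.natDegree, monomial (l : ℕ) (c (i, l))
    have hsum : ∑ i : Fin (J + 1), (N ^ (i : ℕ) * aeval S (h i)) *ᵥ v = 0 := by
      rw [← hc, Fintype.sum_prod_type]
      refine Finset.sum_congr rfl fun i _ => ?_
      simp only [h, map_sum, Finset.mul_sum, Matrix.sum_mulVec, aeval_monomial,
        ← Algebra.smul_def, Matrix.mul_smul, Matrix.smul_mulVec]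
    have hzero : ∀ i, h i = 0 := by
      intro i
      induction hi : (i : ℕ) using Nat.strong_induction_on generalizing i with
      | _ m ih =>
        subst hi
        have h1 := congrArg ((N ^ (J - (i : ℕ))).mulVec) hsum
        rw [Matrix.mulVec_zero, Matrix.mulVec_sum, Finset.sum_eq_single i] at h1
        · rw [Matrix.mulVec_mulVec, ← mul_assoc, ← pow_add, Nat.sub_add_cancel (by omega), ← hT,
            ← (hTp _).eq, ← Matrix.mulVec_mulVec] at h1
          refine Polynomial.eq_zero_of_dvd_of_degree_lt (hv _ h1) ?_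
          have hm0 : sh.poly ≠ 0 := hs ▸ minpoly.ne_zero (Matrix.isIntegral S)
          rw [degree_eq_natDegree hm0]
          simp only [h, ← C_mul_X_pow_eq_monomial]
          exact degree_sum_fin_lt fun l => c (i, l)
        · intro i' _ hne
          rcases lt_or_gt_of_ne hne with hlt | hgt
          · rw [ih _ hlt i' rfl, map_zero, mul_zero, Matrix.zero_mulVec, Matrix.mulVec_zero]
          · rw [Matrix.mulVec_mulVec, ← mul_assoc, ← pow_add,
              pow_eq_zero_of_le (show J + 1 ≤ J - (i : ℕ) + (i' : ℕ) by omega) hJ1, zero_mul,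
              Matrix.zero_mulVec]
        · simp
    rintro ⟨i, l⟩
    have h1 := congrArg (fun q : F[X] => q.coeff l) (hzero i)
    simpa [h, finsetSum_coeff, coeff_monomial, Fin.val_inj] using h1
  have := hli.fintype_card_le_finrank
  simpa using this

/-- An element of order `lcm (orderOf u₀) (p ^ c)` commuting with a self-adjoint idempotent. -/
theorem exists_block {R : Type*} [CommRing R] [Algebra F R] [FiniteDimensional F R] [Nontrivial R]
    (D₀ : Dat (RingEquiv.refl F) (-1) R) (u₀ : R) (hu₀ : D₀.bar u₀ * u₀ = 1) (p : ℕ) (hp : p.Prime)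
    [CharP F p] (h2 : (2 : F) ≠ 0) {c : ℕ} (hc : 1 ≤ c)
    (hdim : Module.finrank F R + (p ^ (c - 1) + 1) = 2 * n) :
    ∃ (g : Matrix.symplecticGroup (Fin n) F) (E : Matrix (Fin n ⊕ Fin n) (Fin n ⊕ Fin n) F),
      IsIdempotentElem E ∧ E ≠ 0 ∧ E ≠ 1 ∧ (adjS F (Fin n)).ad E = E ∧
      Commute ((model F n).toMat g) E ∧
      orderOf (Model.proj g) = Nat.lcm (orderOf u₀) (p ^ c) := by
  classical
  have := Fact.mk hp
  have hp2 : p ≠ 2 := fun h => h2 (by
    subst h; exact_mod_cast CharP.cast_eq_zero F 2)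
  set j := p ^ (c - 1) with hj
  set D := j + 1 with hD
  have hjodd : Odd j := (hp.odd_of_ne_two hp2).pow
  obtain ⟨D₁, hD₁⟩ := Dat.exists_unipotent (σ := RingEquiv.refl F) (ε := (-1 : F)) (fun _ => rfl)
    (by norm_num) rfl D (Nat.succ_pos j) ⟨1, by
      simp only [hD, Nat.add_sub_cancel, hjodd.neg_one_pow, RingEquiv.refl_apply]
      norm_num
      exact h2⟩
  let P : F[X] := (X - C 1) ^ D
  have hP0 : P ≠ 0 := pow_ne_zero _ (X_sub_C_ne_zero 1)
  have : FiniteDimensional F (AdjoinRoot P) := (AdjoinRoot.powerBasis hP0).finite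
  have : Nontrivial (AdjoinRoot P) := AdjoinRoot.nontrivial P (by
    rw [degree_pow, degree_X_sub_C, nsmul_one]; exact_mod_cast Nat.succ_ne_zero j)
  have : CharP (AdjoinRoot P) p :=
    charP_of_injective_algebraMap (algebraMap F (AdjoinRoot P)).injective p
  let D₂ := D₀.prod D₁
  obtain ⟨Φ, hΦ, hbar⟩ := exists_rep_symplectic h2 D₂ (n := n) (by
    rw [Module.finrank_prod, (AdjoinRoot.powerBasis hP0).finrank, AdjoinRoot.powerBasis_dim,
      natDegree_pow, natDegree_X_sub_C, mul_one, hdim])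
  set x := AdjoinRoot.root P with hx
  set u : R × AdjoinRoot P := (u₀, x) with hu
  have hxP : (x - 1) ^ D = 0 := by simpa [P] using AdjoinRoot.mk_self (f := P)
  have hxo : orderOf x = p ^ c := by
    obtain ⟨c', rfl⟩ := Nat.exists_eq_add_of_le' hc
    have hfr : ∀ k, x ^ p ^ k = (x - 1) ^ p ^ k + 1 := fun k => by
      rw [sub_pow_char_pow, one_pow, sub_add_cancel]
    refine orderOf_eq_prime_pow (fun h => ?_) ?_
    · rw [hfr, add_eq_right] at h
      have h4 : AdjoinRoot.mk P ((X - C 1) ^ p ^ c') = 0 := by simpa using h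
      have h5 := natDegree_le_of_dvd (AdjoinRoot.mk_eq_zero.1 h4) (pow_ne_zero _ (X_sub_C_ne_zero 1))
      simp only [P, natDegree_pow, natDegree_X_sub_C, mul_one, hD, hj, Nat.add_sub_cancel] at h5
      omega
    · rw [hfr, pow_eq_zero_of_le ?_ hxP, zero_add]
      rw [hD, hj, Nat.add_sub_cancel]
      exact Nat.pow_lt_pow_right hp.one_lt (Nat.lt_succ_self c')
  have huo : orderOf u = Nat.lcm (orderOf u₀) (p ^ c) := by rw [hu, Prod.orderOf, hxo]
  have hiso : D₂.bar u * u = 1 := Prod.ext hu₀ hD₁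
  refine ⟨⟨Φ u, mem_iff_ad.2 (by rw [hbar, ← map_mul, hiso, map_one])⟩, Φ (1, 0),
    by rw [IsIdempotentElem, ← map_mul]; simp, fun h => ?_, fun h => ?_, ?_, ?_, ?_⟩
  · exact one_ne_zero (α := R) (congrArg Prod.fst (hΦ (h.trans (map_zero Φ).symm)))
  · exact one_ne_zero (α := AdjoinRoot P) (congrArg Prod.snd (hΦ (h.trans (map_one Φ).symm))).symm
  · rw [hbar]
    exact congrArg Φ (Prod.ext (map_one D₀.bar) (map_zero D₁.bar))
  · exact (Commute.all u _).map Φ
  rw [← huo]
  refine orderOf_eq_orderOf_iff.2 fun k => ?_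
  rw [← map_pow, (model F n).proj_eq_one_iff, map_pow]
  show (∃ a : F, Φ u ^ k = a • 1) ↔ _
  refine ⟨?_, fun h => ⟨1, by rw [← map_pow, h, map_one, one_smul]⟩⟩
  rintro ⟨a, ha⟩
  have h1 : u ^ k = a • 1 := hΦ (by rw [map_pow, ha, map_smul, map_one])
  have h2' : x ^ k = a • 1 := congrArg Prod.snd h1
  let ev : AdjoinRoot P →+* F := AdjoinRoot.lift (RingHom.id F) (1 : F) (by simp [P, hD])
  have ha1 : a = 1 := by
    have h := congrArg ev h2'
    rw [map_pow, Algebra.smul_def, mul_one, AdjoinRoot.algebraMap_eq, hx, AdjoinRoot.lift_root,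
      AdjoinRoot.lift_of, RingHom.id_apply, one_pow] at h
    exact h.symm
  rw [h1, ha1, one_smul]

/-- An element of order `lcm (o, p ^ c, 2)`, for `o` the order of the semisimple part. -/
theorem exists_block_shape (p : ℕ) (hp : p.Prime) [CharP F p] {a : ℕ}
    (hF : Fintype.card F = p ^ a) (h2 : (2 : F) ≠ 0)
    (g : Matrix.symplecticGroup (Fin n) F) {c : ℕ} (hc : 1 ≤ c)
    (hpc : p ^ c ∣ orderOf (Model.proj g)) (ho : ¬ 2 ∣ ordCompl[p] (orderOf (Model.proj g)))
    (ho1 : ordCompl[p] (orderOf (Model.proj g)) ≠ 1)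
    (hE : ¬ ∃ E, IsIdempotentElem E ∧ E ≠ 0 ∧ E ≠ 1 ∧ (adjS F (Fin n)).ad E = E ∧
      Commute ((model F n).toMat g) E)
    (hmul : ∀ (y : Matrix.symplecticGroup (Fin n) F) (E : Matrix (Fin n ⊕ Fin n) (Fin n ⊕ Fin n) F),
      IsIdempotentElem E → E ≠ 0 → E ≠ 1 → (adjS F (Fin n)).ad E = E →
      Commute ((model F n).toMat y) E → ¬ 2 ∣ orderOf (Model.proj y) →
      ∃ z : Cfsg.PSp n F, orderOf z = orderOf (Model.proj y) * 2) :
    ∃ z : Cfsg.PSp n F,
      orderOf z = Nat.lcm (Nat.lcm (ordCompl[p] (orderOf (Model.proj g))) (p ^ c)) 2 := by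
  classical
  have := Fact.mk hp
  have hp2 : p ≠ 2 := fun h => h2 (by
    subst h; exact_mod_cast CharP.cast_eq_zero F 2)
  set W := model F n with hW
  have hn : 1 ≤ n := by
    by_contra hn
    obtain rfl : n = 0 := by omega
    refine ho1 ?_
    rw [show g = 1 from Subtype.ext (Subsingleton.elim _ _), map_one, orderOf_one]
    simp
  have : Nonempty (Fin n ⊕ Fin n) := ⟨.inl ⟨0, hn⟩⟩
  obtain ⟨sh, hs, -⟩ := (W.dichotomy p hp g).resolve_left hE
  set o := orderOf g with ho_def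
  set o' := ordCompl[p] (orderOf (Model.proj g)) with ho'
  have ho0 : o ≠ 0 := (orderOf_pos g).ne'
  set s := g ^ ordProj[p] o with hsdef
  have hso : orderOf (Model.proj s) = o' := Model.orderOf_proj_pow p hp g
  set S := W.toMat s with hSdef
  set U := W.toMat (g ^ ordCompl[p] o) with hUdef
  have hUP : U ^ (p ^ o.factorization p) = 1 := by
    rw [hUdef, ← map_pow, ← pow_mul, mul_comm, Nat.ordProj_mul_ordCompl_eq_self, pow_orderOf_eq_one,
      map_one]
  have hnil : IsNilpotent (U - 1) := ⟨p ^ o.factorization p, by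
    rw [sub_pow_char_pow_of_commute _ _ (Commute.one_right U), hUP, one_pow, sub_self]⟩
  set j := p ^ (c - 1) with hj
  have hjne : (U - 1) ^ j ≠ 0 := by
    intro hzero
    rw [hj, sub_pow_char_pow_of_commute _ _ (Commute.one_right U), one_pow, sub_eq_zero, hUdef,
      ← map_pow, ← pow_mul] at hzero
    have h1 : orderOf (Model.proj g) ∣ ordCompl[p] o * p ^ (c - 1) := orderOf_dvd_of_pow_eq_one (by
      rw [← map_pow, W.inj (hzero.trans (map_one W.toMat).symm), map_one])
    have h2 : p ^ c ∣ p ^ (c - 1) := Nat.Coprime.dvd_of_dvd_mul_left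
      (Nat.Coprime.pow_left _ (Nat.coprime_ordCompl hp ho0)) (hpc.trans h1)
    rw [Nat.pow_dvd_pow_iff_le_right hp.one_lt] at h2
    omega
  have hbound := shape_bound sh (W.isom s).1 hs (W.isom _).1
    (show Commute S U by
      rw [hSdef, hUdef]; exact ((Commute.refl g).pow_pow _ _).map W.toMat) hnil hjne
  rw [Fintype.card_sum, Fintype.card_fin] at hbound
  have hjodd : Odd j := (hp.odd_of_ne_two hp2).pow
  -- the block algebra
  obtain ⟨R, _, _, _, _, D₀, u₀, hu₀, hfr, hmin, hdeg2⟩ : ∃ (R : Type) (_ : CommRing R)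
      (_ : Algebra F R) (_ : FiniteDimensional F R) (_ : Nontrivial R)
      (D₀ : Dat (RingEquiv.refl F) (-1) R) (u₀ : R),
      D₀.bar u₀ * u₀ = 1 ∧ Module.finrank F R = sh.poly.natDegree ∧ minpoly F u₀ = sh.poly ∧
      (2 ≤ sh.poly.natDegree ∧ Even sh.poly.natDegree) := by
    rcases sh.eq with ⟨hgf, hpoly⟩ | ⟨hgf, hpoly⟩
    · have := Fact.mk sh.f_irr
      have : Module.Finite F (AdjoinRoot sh.f) := (AdjoinRoot.powerBasis sh.f_irr.ne_zero).finite
      have : Finite (AdjoinRoot sh.f) := Module.finite_of_finite F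
      rcases sh.symplectic_root hgf (fun _ => rfl) (x := AdjoinRoot.root sh.f)
        (by rw [AdjoinRoot.aeval_eq, AdjoinRoot.mk_self]) with ⟨hd1, -⟩ | ⟨k, hk, -⟩
      · exfalso
        refine ho1 (hso.symm.trans (orderOf_eq_one_iff.2 ?_))
        rw [W.proj_eq_one_iff]
        have h0 := minpoly.aeval F S
        rw [hs, hpoly, sh.f_monic.eq_X_add_C hd1, map_add, aeval_X, aeval_C,
          Algebra.algebraMap_eq_smul_one, add_eq_zero_iff_eq_neg, ← neg_smul] at h0
        exact ⟨_, h0⟩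
      · have hkpos : 1 ≤ k := by have := sh.f_irr.natDegree_pos; omega
        obtain ⟨L, _, _, _, D, hfrL, hbarL⟩ := exists_fieldDat p hp hF h2 k hkpos
        obtain ⟨x, hx⟩ := exists_root_of_dvd (L := L) sh.f_irr (by rw [hfrL, hk])
        refine ⟨L, inferInstance, inferInstance, Module.Finite.of_finite, inferInstance, D, x, ?_,
          by rw [hfrL, hpoly, hk], ?_, ⟨by rw [hpoly, hk]; omega, by rw [hpoly, hk]; exact even_two_mul k⟩⟩
        · rcases sh.symplectic_root hgf (fun _ => rfl) hx with ⟨hd1, -⟩ | ⟨k', hk', hroot⟩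
          · omega
          obtain rfl : k' = k := by omega
          rw [hbarL]
          simpa using hroot 1 odd_one
        · rw [hpoly]; exact (minpoly.eq_of_irreducible_of_monic sh.f_irr hx sh.f_monic).symm
    · obtain ⟨L, _, _, _, D, hfrL, hbarL⟩ :=
        exists_hyperField (F := F) p hp sh.f.natDegree sh.f_irr.natDegree_pos
      obtain ⟨x, hx⟩ := exists_root_of_dvd (L := L) sh.f_irr (by rw [hfrL])
      have hx0 : x ≠ 0 := by
        rintro rfl
        apply sh.f0
        rwa [aeval_def, eval₂_at_zero, map_eq_zero] at hx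
      have hdeg : sh.poly.natDegree = sh.f.natDegree + sh.f.natDegree := by
        rw [hpoly, sh.f_monic.natDegree_mul sh.g_monic, sh.deg]
      have hf1 : 0 < sh.f.natDegree := sh.f_irr.natDegree_pos
      refine ⟨L × L, inferInstance, inferInstance, Module.Finite.of_finite, inferInstance, D,
        (x, x⁻¹), ?_, by rw [Module.finrank_prod, hfrL, hdeg],
        sh.minpoly_pair (RingHom.id L) (fun _ => rfl) hx, ⟨by omega, ⟨_, hdeg⟩⟩⟩
      rw [hbarL]
      exact Prod.ext (inv_mul_cancel₀ hx0) (mul_inv_cancel₀ hx0)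
  obtain ⟨hd2, hdeven⟩ := hdeg2
  set d := sh.poly.natDegree with hd
  obtain ⟨e, he⟩ : ∃ e, d + (j + 1) + 2 * e = 2 * n := by
    obtain ⟨d', hd'⟩ := hdeven
    obtain ⟨j', hj'⟩ := hjodd
    have : d + (j + 1) ≤ (j + 1) * d := by
      rw [show j + 1 = 2 + (j - 1) by omega, add_mul]
      have h1 : j - 1 ≤ (j - 1) * d := Nat.le_mul_of_pos_right _ (by omega)
      omega
    exact ⟨n - d' - (j' + 1), by omega⟩
  obtain ⟨Df, hDf⟩ := exists_hyperDat (F := F) (Fin e → F) (∑ i, LinearMap.proj i)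
    (fun v hv => Dat.sum_proj_nondeg v hv)
  obtain ⟨y, E, h1, h2', h3, h4, h5, hy⟩ := exists_block (n := n) (D₀.prod Df) (u₀, 1)
    (Prod.ext hu₀ (show Df.bar 1 * 1 = 1 by rw [map_one, mul_one])) p hp h2 hc (by
      rw [Module.finrank_prod, Module.finrank_prod, hfr, Module.finrank_fintype_fun_eq_card,
        Fintype.card_fin, ← hj]
      omega)
  have hord : orderOf u₀ = orderOf s := by
    refine orderOf_eq_orderOf_iff.2 fun k => ?_
    have h1 : aeval u₀ (X ^ k - 1 : F[X]) = 0 ↔ sh.poly ∣ X ^ k - 1 := by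
      rw [← hmin]; exact (minpoly.dvd_iff).symm
    have h2 : aeval S (X ^ k - 1 : F[X]) = 0 ↔ sh.poly ∣ X ^ k - 1 := by
      rw [← hs]; exact (minpoly.dvd_iff).symm
    simp only [map_sub, map_pow, aeval_X, map_one, sub_eq_zero] at h1 h2
    rw [h1, ← h2, hSdef, ← map_pow, ← map_one W.toMat, W.inj.eq_iff]
  have hos : orderOf s ∣ 2 * o' ∧ o' ∣ orderOf s := by
    refine ⟨?_, hso ▸ orderOf_map_dvd _ s⟩
    refine orderOf_dvd_of_pow_eq_one (W.inj ?_)
    obtain ⟨b, hb⟩ := (W.proj_eq_one_iff (s ^ o')).1 (by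
      rw [map_pow, ← hso, pow_orderOf_eq_one])
    have hiso := (W.isom (s ^ o')).1
    rw [hb, (adjS F (Fin n)).ad_smul, (adjS F (Fin n)).ad_one, smul_mul_smul_comm, one_mul] at hiso
    change (b * b) • (1 : Matrix (Fin n ⊕ Fin n) (Fin n ⊕ Fin n) F) = 1 at hiso
    rw [mul_comm 2, pow_mul, map_pow, hb, _root_.smul_pow, one_pow, sq, hiso, map_one]
  rw [Prod.orderOf, orderOf_one, Nat.lcm_one_right, hord] at hy
  by_cases h2y : 2 ∣ orderOf (Model.proj y)
  · refine ⟨Model.proj y, ?_⟩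
    rw [hy] at h2y ⊢
    refine Nat.dvd_antisymm (Nat.lcm_dvd ?_ (Nat.dvd_trans (Nat.dvd_lcm_right _ _)
      (Nat.dvd_lcm_left _ _))) (Nat.lcm_dvd (Nat.lcm_dvd (hos.2.trans (Nat.dvd_lcm_left _ _))
      (Nat.dvd_lcm_right _ _)) h2y)
    refine hos.1.trans ?_
    rw [← Nat.Coprime.lcm_eq_mul (Nat.coprime_primes Nat.prime_two Nat.prime_two |> fun _ =>
      (Nat.prime_two.coprime_iff_not_dvd).2 ho)]
    exact Nat.lcm_dvd (Nat.dvd_lcm_right _ _) ((Nat.dvd_lcm_left _ _).trans (Nat.dvd_lcm_left _ _))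
  · obtain ⟨z, hz⟩ := hmul y E h1 h2' h3 h4 h5 h2y
    refine ⟨z, ?_⟩
    rw [hz, hy] at *
    have hodd : ¬ 2 ∣ orderOf s := fun h => h2y (h.trans (Nat.dvd_lcm_left _ _))
    have hso' : orderOf s = o' := Nat.dvd_antisymm
      (Nat.Coprime.dvd_of_dvd_mul_left (Nat.coprime_comm.1 ((Nat.prime_two.coprime_iff_not_dvd).2 hodd))
        hos.1) hos.2
    rw [hso'] at h2y ⊢
    exact (Nat.Coprime.lcm_eq_mul (Nat.coprime_comm.1
      ((Nat.prime_two.coprime_iff_not_dvd).2 h2y))).symm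

end CfsgLib.FormRep.Symplectic
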