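import Cfsg.Agent.Lib.FormRep.Rep
import Cfsg.Agent.Lib.FormRep.Model
import Cfsg.Agent.Lib.FormRep.Roots
import Cfsg.Agent.Lib.FormRep.Common
import Cfsg.Prelude.Def_Classical

set_option autoImplicit false

/-!
`SU_n(q)`: model, maximal torus, and elements of order `p ^ c * r`.
-/

namespace CfsgLib.FormRep.Unitary

open Polynomial Module
open scoped Matrix

variable {F : Type*} [Field F] {n q : ℕ}

theorem mem_SU_iff {g : Matrix.SpecialLinearGroup (Fin n) F} (σ : F ≃+* F)
    (hσq : ∀ c, σ c = c ^ q) (hσ : ∀ c, σ (σ c) = c) :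
    g ∈ Cfsg.SU n F q ↔ (adjU σ hσ (Fin n)).ad (g : Matrix (Fin n) (Fin n) F) *
      (g : Matrix (Fin n) (Fin n) F) = 1 := by
  classical
  set A := (g : Matrix (Fin n) (Fin n) F) with hA
  have key : ∀ u v : Fin n → F,
      Cfsg.hermForm n F q (A *ᵥ u) (A *ᵥ v) = u ⬝ᵥ ((Aᵀ * A.map σ) *ᵥ fun i => σ (v i)) := by
    intro u v
    rw [← Matrix.mulVec_mulVec, Matrix.dotProduct_mulVec, Matrix.vecMul_transpose]
    simp only [Cfsg.hermForm, dotProduct, ← hσq]
    refine Finset.sum_congr rfl fun i _ => ?_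
    congr 1
    exact RingHom.map_mulVec σ.toRingHom A v i
  have hher : ∀ u v : Fin n → F, Cfsg.hermForm n F q u v = u ⬝ᵥ fun i => σ (v i) := fun u v => by
    simp [Cfsg.hermForm, dotProduct, hσq]
  have hequiv : (A.map σ)ᵀ * A = 1 ↔ Aᵀ * A.map σ = 1 := by
    constructor <;> intro h <;>
      simpa [Matrix.transpose_mul, Matrix.transpose_one] using congrArg Matrix.transpose h
  show (∀ u v, Cfsg.hermForm n F q (A *ᵥ u) (A *ᵥ v) = _) ↔ (A.map σ)ᵀ * A = 1
  rw [hequiv]
  constructor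
  · intro h
    ext i j
    have h1 := h (Pi.single i 1) (Pi.single j 1)
    rw [key, hher] at h1
    have h2 : (fun k => σ ((Pi.single j 1 : Fin n → F) k)) = Pi.single j 1 := by
      funext k
      by_cases hk : k = j <;> simp [hk]
    rw [h2] at h1
    simpa [Matrix.one_apply, Pi.single_apply, eq_comm] using h1
  · intro h u v
    rw [key, hher, h, Matrix.one_mulVec]

theorem center_iff [Fintype F] (hn : 3 ≤ n) (hq : Fintype.card F = q ^ 2) (σ : F ≃+* F)
    (hσq : ∀ c, σ c = c ^ q) (hσ : ∀ c, σ (σ c) = c) (g : Cfsg.SU n F q) :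
    g ∈ Subgroup.center (Cfsg.SU n F q) ↔
      ∃ c : F, (g.1 : Matrix (Fin n) (Fin n) F) = c • 1 := by
  classical
  constructor
  swap
  · rintro ⟨c, hc⟩
    rw [Subgroup.mem_center_iff]
    intro h
    refine Subtype.ext (Subtype.ext ?_)
    show (h.1 : Matrix (Fin n) (Fin n) F) * g.1 = g.1 * h.1
    rw [hc, Matrix.mul_smul, Matrix.smul_mul, Matrix.mul_one, Matrix.one_mul]
  intro hg
  set Z := (g.1 : Matrix (Fin n) (Fin n) F) with hZ
  have hcomm : ∀ A : Matrix (Fin n) (Fin n) F, (A.map σ)ᵀ * A = 1 → A.det = 1 → A * Z = Z * A := by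
    intro A hA hd
    have := Subgroup.mem_center_iff.1 hg
      ⟨⟨A, hd⟩, (mem_SU_iff (g := ⟨A, hd⟩) σ hσq hσ).2 hA⟩
    exact congrArg (fun h : Cfsg.SU n F q => (h.1 : Matrix (Fin n) (Fin n) F)) this
  have h1q : 1 < q := by
    by_contra hh
    have := Fintype.one_lt_card (α := F)
    rw [hq] at this
    obtain h0 | h0 : q = 0 ∨ q = 1 := by omega
    all_goals simp [h0] at this
  obtain ⟨l, hl0, hl1, hl2⟩ : ∃ l : F, σ l * l = 1 ∧ l ≠ 1 ∧ l ≠ l⁻¹ := by
    have hdvd : q + 1 ∣ Fintype.card F - 1 := ⟨q - 1, by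
      rw [hq, ← Nat.sq_sub_sq q 1, one_pow]⟩
    obtain ⟨u, hu⟩ := IsCyclic.exists_generator (α := Fˣ)
    have hou : orderOf u = Fintype.card F - 1 := by
      rw [orderOf_eq_card_of_forall_mem_zpowers hu, Nat.card_units, Nat.card_eq_fintype_card]
    obtain ⟨x, hx⟩ := exists_order_of_dvd u (orderOf_pos u) (hou ▸ hdvd)
    have hx' : orderOf (x : F) = q + 1 := by rw [orderOf_units, hx]
    refine ⟨x, ?_, fun h => ?_, fun h => ?_⟩
    · rw [hσq, ← pow_succ, ← hx', pow_orderOf_eq_one]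
    · rw [h, orderOf_one] at hx'; omega
    · have h2 : (x : F) ^ 2 = 1 := by
        rw [sq]; nth_rw 2 [h]; exact mul_inv_cancel₀ x.ne_zero
      have := Nat.le_of_dvd two_pos (orderOf_dvd_of_pow_eq_one h2)
      omega
  have hl3 : l ≠ 0 := fun h => by simp [h] at hl0
  have hdiag : ∀ i j, i ≠ j → Z i j = 0 := by
    intro i j hij
    obtain ⟨k, hki, hkj⟩ : ∃ k : Fin n, k ≠ i ∧ k ≠ j := by
      by_contra hcon
      have : (Finset.univ : Finset (Fin n)) ⊆ {i, j} := fun k _ => by
        simp only [not_exists, not_and, not_not] at hcon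
        rcases eq_or_ne k i with h | h
        · simp [h]
        · simp [hcon k h]
      have := (Finset.card_le_card this).trans Finset.card_le_two
      simp at this; omega
    let d : Fin n → F := fun t => if t = i then l else if t = k then l⁻¹ else 1
    have hdd : ∀ t, σ (d t) * d t = 1 := fun t => by
      dsimp [d]
      split_ifs
      · exact hl0
      · rw [map_inv₀, ← mul_inv, hl0, inv_one]
      · simp
    have hA : ((Matrix.diagonal d).map σ)ᵀ * Matrix.diagonal d = 1 := by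
      rw [Matrix.diagonal_map (map_zero σ), Matrix.diagonal_transpose, Matrix.diagonal_mul_diagonal,
        ← Matrix.diagonal_one]
      exact congrArg _ (funext hdd)
    have hd : (Matrix.diagonal d).det = 1 := by
      rw [Matrix.det_diagonal, Finset.prod_eq_mul i k hki.symm]
      · simp [d, hki, hl3]
      · intro t _ ht; simp [d, ht.1, ht.2]
      · simp
      · simp
    have := congrFun (congrFun (hcomm _ hA hd) i) j
    rw [Matrix.diagonal_mul, Matrix.mul_diagonal] at this
    simp only [d, if_true, if_neg hij.symm, if_neg hkj.symm, mul_one] at this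
    have h2 : (l - 1) * Z i j = 0 := by linear_combination this
    exact (mul_eq_zero.1 h2).resolve_left (sub_ne_zero.2 hl1)
  refine ⟨Z ⟨0, by omega⟩ ⟨0, by omega⟩, ?_⟩
  ext i j
  rcases eq_or_ne i j with rfl | hij
  swap
  · simp [hdiag i j hij, hij]
  simp only [Matrix.smul_apply, Matrix.one_apply_eq, smul_eq_mul, mul_one]
  set o : Fin n := ⟨0, by omega⟩
  rcases eq_or_ne i o with rfl | hio
  · rfl
  let e := Equiv.swap i o
  let s : Fin n → F := fun t => if t = i then -1 else 1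
  let A : Matrix (Fin n) (Fin n) F := Matrix.diagonal s * e.permMatrix F
  have hA : (A.map σ)ᵀ * A = 1 := by
    have hP : ((e.permMatrix F).map σ) = e.permMatrix F := by
      ext a b; simp [Equiv.Perm.permMatrix, PEquiv.toMatrix_apply, apply_ite σ]
    rw [Matrix.map_mul, hP, Matrix.transpose_mul, Matrix.diagonal_map (map_zero σ),
      Matrix.diagonal_transpose, mul_assoc, ← mul_assoc (Matrix.diagonal _),
      Matrix.diagonal_mul_diagonal]
    rw [show (fun t => σ (s t) * s t) = fun _ => (1 : F) from funext fun t => by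
      dsimp [s]; split_ifs <;> simp, Matrix.diagonal_one, one_mul, Matrix.transpose_permMatrix,
      ← Matrix.permMatrix_mul, mul_inv_cancel, Matrix.permMatrix_one]
  have hd : A.det = 1 := by
    rw [Matrix.det_mul, Matrix.det_diagonal, Matrix.det_permutation, Equiv.Perm.sign_swap hio,
      Finset.prod_eq_single i]
    · simp [s]
    · intro t _ ht; simp [s, ht]
    · simp
  have := congrFun (congrFun (hcomm _ hA hd) i) o
  rw [Matrix.mul_apply, Matrix.mul_apply, Finset.sum_eq_single o, Finset.sum_eq_single i] at this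
  · simp [A, s, e, Matrix.diagonal_mul, Equiv.Perm.permMatrix, PEquiv.toMatrix_apply] at this
    exact this.symm
  · intro t _ ht; simp [hdiag i t (Ne.symm ht)]
  · simp
  · intro t _ ht; simp [hdiag t o ht]
  · simp

/-- `SU` as a model. -/
def model [Fintype F] (hn : 3 ≤ n) (hq : Fintype.card F = q ^ 2) (σ : F ≃+* F)
    (hσq : ∀ c, σ c = c ^ q) (hσ : ∀ c, σ (σ c) = c) :
    Model (adjU σ hσ (Fin n)) (Cfsg.SU n F q) where
  toMat :=
    { toFun := fun g => (g.1 : Matrix (Fin n) (Fin n) F)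
      map_one' := rfl
      map_mul' := fun _ _ => rfl }
  inj := fun a b h => Subtype.ext (Subtype.ext h)
  isom g := ⟨(mem_SU_iff σ hσq hσ).1 g.2, g.1.2⟩
  mem A hA hd := ⟨⟨⟨A, hd⟩, (mem_SU_iff (g := ⟨A, hd⟩) σ hσq hσ).2 hA⟩, rfl⟩
  center_iff := center_iff hn hq σ hσq hσ

theorem fix_det (σ : F ≃+* F) (hσ : ∀ c, σ (σ c) = c) (r : ℕ) (hr : r.Prime) (hrn : ¬ r ∣ n)
    (A : Matrix (Fin n) (Fin n) F) (hA : (adjU σ hσ (Fin n)).ad A * A = 1) (hAr : A ^ r = 1) :
    ∃ (c : F) (e : ℕ), ¬ r ∣ e ∧ c ^ r = 1 ∧ (adjU σ hσ (Fin n)).σ c * c = 1 ∧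
      (c • A ^ e).det = 1 := by
  have hdr : A.det ^ r = 1 := by rw [← Matrix.det_pow, hAr, Matrix.det_one]
  have hd0 : A.det ≠ 0 := fun h => by simp [h, hr.ne_zero] at hdr
  have hdσ : σ A.det * A.det = 1 := by
    have h := congrArg Matrix.det hA
    rw [Matrix.det_mul, Matrix.det_one] at h
    rw [show σ A.det = (A.map σ).det from RingHom.map_det σ.toRingHom A, ← Matrix.det_transpose]
    exact h
  refine ⟨A.det⁻¹, n, hrn, by rw [inv_pow, hdr, inv_one], ?_, ?_⟩
  · show σ A.det⁻¹ * A.det⁻¹ = 1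
    rw [map_inv₀, ← mul_inv, hdσ, inv_one]
  · rw [Matrix.det_smul, Matrix.det_pow, Fintype.card_fin, inv_pow,
      inv_mul_cancel₀ (pow_ne_zero _ hd0)]

variable [Fintype F]

/-- A self-adjoint idempotent commuting with an element of order `p ^ c`. -/
theorem exists_block (hn : 3 ≤ n) (hq : Fintype.card F = q ^ 2) (σ : F ≃+* F)
    (hσq : ∀ c, σ c = c ^ q) (hσ : ∀ c, σ (σ c) = c) (hne : σ ≠ RingEquiv.refl F) (p : ℕ)
    (hp : p.Prime) [CharP F p] {c : ℕ} (hcn : c = 0 ∨ p ^ (c - 1) + 1 < n) :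
    ∃ (g : Cfsg.SU n F q) (E : Matrix (Fin n) (Fin n) F), IsIdempotentElem E ∧ E ≠ 0 ∧ E ≠ 1 ∧
      (adjU σ hσ (Fin n)).ad E = E ∧
      Commute ((model hn hq σ hσq hσ).toMat g) E ∧ orderOf (Model.proj g) = p ^ c := by
  classical
  have := Fact.mk hp
  obtain ⟨D, hD0, hDn, hlow, hup⟩ : ∃ D, 0 < D ∧ D < n ∧ D ≤ p ^ c ∧
      (0 < c → p ^ (c - 1) < D) := by
    rcases Nat.eq_zero_or_pos c with rfl | hc
    · exact ⟨1, one_pos, by omega, by simp, fun h => absurd h (lt_irrefl 0)⟩
    · exact ⟨p ^ (c - 1) + 1, by omega, hcn.resolve_left (by omega),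
        Nat.pow_lt_pow_right hp.one_lt (by omega), fun _ => by omega⟩
  obtain ⟨D₁, hD₁⟩ := Dat.exists_unipotent (σ := σ) (ε := (1 : F)) hσ (one_mul 1) (map_one σ) D hD0
    (by
      by_contra hcon
      simp only [not_exists, not_not, mul_one] at hcon
      refine hne (RingEquiv.ext fun x => ?_)
      have h1 : (-1 : F) ^ (D - 1) = -1 := by
        have := hcon 1
        rw [map_one, mul_one] at this
        linear_combination this
      have h2 := hcon x
      rw [h1] at h2
      show σ x = x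
      linear_combination -h2)
  let P : F[X] := (X - C 1) ^ D
  have hP0 : P ≠ 0 := pow_ne_zero _ (X_sub_C_ne_zero 1)
  have : FiniteDimensional F (AdjoinRoot P) := (AdjoinRoot.powerBasis hP0).finite
  let D₂ := D₁.prod (Dat.pi (σ := σ) hσ rfl (Fin (n - D)))
  obtain ⟨Φ, hΦ, hbar⟩ := exists_rep_unitary hσ hne D₂ (n := n) (by
    rw [Module.finrank_prod, (AdjoinRoot.powerBasis hP0).finrank, AdjoinRoot.powerBasis_dim,
      natDegree_pow, natDegree_X_sub_C, Module.finrank_fintype_fun_eq_card, Fintype.card_fin]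
    omega)
  set u : AdjoinRoot P × (Fin (n - D) → F) := (AdjoinRoot.root P, 1) with hu
  have hxpow : ∀ k, u ^ p ^ k = ((AdjoinRoot.root P - 1) ^ p ^ k + 1, 1) := fun k => by
    have : CharP (AdjoinRoot P) p := by
      have : Nontrivial (AdjoinRoot P) := AdjoinRoot.nontrivial P (by
        rw [degree_pow, degree_X_sub_C]; simpa using hD0.ne')
      exact charP_of_injective_algebraMap (algebraMap F (AdjoinRoot P)).injective p
    refine Prod.ext ?_ (one_pow _)
    show AdjoinRoot.root P ^ p ^ k = _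
    rw [sub_pow_char_pow, one_pow, sub_add_cancel]
  have hpow0 : u ^ p ^ c = 1 := by
    rw [hxpow]
    refine Prod.ext ?_ rfl
    show (AdjoinRoot.root P - 1) ^ p ^ c + 1 = 1
    rw [pow_eq_zero_of_le hlow, zero_add]
    have := AdjoinRoot.mk_self (f := P)
    simpa [P] using this
  have hdet : (Φ u).det = 1 := by
    have h1 : (Φ u).det ^ p ^ c = 1 := by
      rw [← Matrix.det_pow, ← map_pow, hpow0, map_one, Matrix.det_one]
    have h2 : ((Φ u).det - 1) ^ p ^ c = 0 := by rw [sub_pow_char_pow, h1, one_pow, sub_self]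
    exact sub_eq_zero.1 (pow_eq_zero_iff (pow_ne_zero _ hp.ne_zero) |>.1 h2)
  obtain ⟨g, hg⟩ := (model hn hq σ hσq hσ).exists_of_rep Φ D₂.bar hbar (u := u)
    (Prod.ext hD₁ (funext fun i => by simp [hu, D₂, Dat.prod, Dat.pi])) hdet
  have hne10 : ((1, 0) : AdjoinRoot P × (Fin (n - D) → F)) ≠ 1 := fun h => by
    have := congrFun (congrArg Prod.snd h) ⟨0, by omega⟩
    simp at this
  refine ⟨g, Φ (1, 0), by rw [IsIdempotentElem, ← map_mul]; simp, fun h => ?_, fun h => ?_, ?_, ?_,
    ?_⟩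
  · have h1 := congrArg Prod.fst (hΦ (h.trans (map_zero Φ).symm))
    have : Nontrivial (AdjoinRoot P) := AdjoinRoot.nontrivial P (by
      rw [degree_pow, degree_X_sub_C]; simpa using hD0.ne')
    exact one_ne_zero h1
  · exact hne10 (hΦ (h.trans (map_one Φ).symm))
  · rw [hbar]
    exact congrArg Φ (Prod.ext (map_one D₁.bar) (funext fun _ => map_zero σ))
  · rw [hg]; exact (Commute.all u _).map Φ
  rcases Nat.eq_zero_or_pos c with rfl | hc
  · rw [pow_zero, orderOf_eq_one_iff]
    rw [pow_zero, pow_one] at hpow0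
    rw [(model hn hq σ hσq hσ).proj_eq_one_iff, hg, hpow0, map_one]
    exact ⟨1, (one_smul _ _).symm⟩
  obtain ⟨c', rfl⟩ := Nat.exists_eq_add_of_le' hc
  refine orderOf_eq_prime_pow (fun h => ?_) ?_
  · rw [← map_pow, (model hn hq σ hσq hσ).proj_eq_one_iff, map_pow, hg, ← map_pow] at h
    obtain ⟨a, ha⟩ := h
    have h2 : u ^ p ^ c' = a • 1 := hΦ (by rw [ha, map_smul, map_one])
    rw [hxpow] at h2
    have ha1 : a = 1 := by
      simpa using (congrFun (congrArg Prod.snd h2) ⟨0, by omega⟩).symm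
    have h3 := congrArg Prod.fst h2
    rw [ha1, one_smul] at h3
    simp only [Prod.fst_one, add_eq_right] at h3
    have h4 : AdjoinRoot.mk P ((X - C 1) ^ p ^ c') = 0 := by simpa using h3
    have h5 := natDegree_le_of_dvd (AdjoinRoot.mk_eq_zero.1 h4) (pow_ne_zero _ (X_sub_C_ne_zero 1))
    simp only [P, natDegree_pow, natDegree_X_sub_C] at h5
    have := hup hc
    simp only [Nat.add_sub_cancel] at this
    omega
  · rw [← map_pow, (model hn hq σ hσq hσ).proj_eq_one_iff, map_pow, hg, ← map_pow, hpow0,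
      map_one]
    exact ⟨1, (one_smul _ _).symm⟩

/-- One cyclic torus takes all orders of elements without invariant splitting. -/
theorem exists_torus (hn : 3 ≤ n) (hq : Fintype.card F = q ^ 2) (σ : F ≃+* F)
    (hσq : ∀ c, σ c = c ^ q) (hσ : ∀ c, σ (σ c) = c) (hne : σ ≠ RingEquiv.refl F) (p a : ℕ)
    (hp : p.Prime) [CharP F p] (hqa : q = p ^ a) :
    ∃ N : ℕ, (∀ k, k ∣ N → ∃ z : Cfsg.PSU n F q, orderOf z = k) ∧
      ∀ g : Cfsg.SU n F q, (∃ E : Matrix (Fin n) (Fin n) F, IsIdempotentElem E ∧ E ≠ 0 ∧ E ≠ 1 ∧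
        (adjU σ hσ (Fin n)).ad E = E ∧ Commute ((model hn hq σ hσq hσ).toMat g) E) ∨
        ordCompl[p] (orderOf (Model.proj g)) ∣ N := by
  classical
  have := Fact.mk hp
  set W := model hn hq σ hσq hσ with hW
  have hne' : Nonempty (Fin n) := ⟨⟨0, by omega⟩⟩
  have hσc : ∃ c : F, c + σ c ≠ 0 := by
    by_contra hcon
    simp only [not_exists, not_not] at hcon
    refine hne (RingEquiv.ext fun x => ?_)
    have h1 : (1 : F) + 1 = 0 := by simpa using hcon 1
    show σ x = x
    linear_combination hcon x - x * h1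
  have hfix : ∀ c : F, c ^ q ^ 2 = c := fun c => hq ▸ FiniteField.pow_card c
  have hodd : ∀ (c : F) (e : ℕ), Odd e → c ^ q ^ e = c ^ q := by
    rintro c e ⟨k, rfl⟩
    induction k with
    | zero => simp
    | succ k ih =>
      rw [show 2 * (k + 1) + 1 = 2 + (2 * k + 1) by ring, pow_add, pow_mul, hfix, ih]
  -- degrees of shapes
  have hshape : ∀ (s : Cfsg.SU n F q) (sh : (adjU σ hσ (Fin n)).Shape),
      minpoly F (W.toMat s) = sh.poly →
      (sh.g = sh.f → Odd sh.f.natDegree ∧ sh.f.natDegree ∣ n) ∧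
      (sh.g ≠ sh.f → 2 * sh.f.natDegree ∣ n) := by
    intro s sh hs
    obtain ⟨k, hk⟩ := sh.charpoly_eq (W.isom s).1 hs
    have hdeg := congrArg natDegree hk
    rw [Matrix.charpoly_natDegree_eq_dim, Fintype.card_fin, natDegree_pow] at hdeg
    refine ⟨fun he => ⟨?_, ?_⟩, fun he => ?_⟩
    · have := Fact.mk sh.f_irr
      have : Module.Finite F (AdjoinRoot sh.f) := (AdjoinRoot.powerBasis sh.f_irr.ne_zero).finite
      have : Finite (AdjoinRoot sh.f) := Module.finite_of_finite F
      obtain ⟨τ, hτ⟩ := exists_powEquiv (F := F) (AdjoinRoot sh.f) p hp a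
      exact (sh.unitary_root he hq hσq τ.toRingHom (fun y => by rw [hqa]; exact hτ y)
        (x := AdjoinRoot.root sh.f) (by rw [AdjoinRoot.aeval_eq, AdjoinRoot.mk_self])).1
    · rcases sh.eq with ⟨-, e⟩ | ⟨e, -⟩
      · rw [e] at hdeg; exact Dvd.intro_left k hdeg.symm
      · exact absurd he e
    · rcases sh.eq with ⟨e, -⟩ | ⟨-, e⟩
      · exact absurd e he
      · rw [e, sh.f_monic.natDegree_mul sh.g_monic, sh.deg, ← two_mul] at hdeg
        exact Dvd.intro_left k hdeg.symm
  rcases Nat.even_or_odd n with hev | hno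
  · obtain ⟨l, hl⟩ := hev
    have : NeZero l := ⟨by omega⟩
    let L := FiniteField.Extension F p l
    have hfr : Module.finrank F L = l := FiniteField.finrank_extension F p l
    obtain ⟨τ, hτ⟩ := exists_powEquiv (F := F) L p hp a
    have hτq : ∀ y : L, τ y = y ^ q := fun y => by rw [hqa]; exact hτ y
    have hτF : ∀ c : F, τ (algebraMap F L c) = algebraMap F L (σ c) := fun c => by
      rw [hτq, hσq, map_pow]
    obtain ⟨f, hf⟩ : ∃ f : L →ₗ[F] F, f 1 ≠ 0 := by
      by_contra hcon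
      simp only [not_exists, not_not] at hcon
      exact one_ne_zero ((Module.forall_dual_apply_eq_zero_iff F (1 : L)).1 hcon)
    let D := Dat.hyper (σ := σ) (ε := (1 : F)) hσ (one_mul 1) (map_one σ) τ hτF f (fun x hx => by
      by_contra h0
      have := hx x⁻¹
      rw [mul_inv_cancel₀ h0] at this
      exact hf this)
    obtain ⟨Φ, hΦ, hbar⟩ := exists_rep_unitary hσ hne D (n := n) (by
      rw [Module.finrank_prod, hfr]; omega)
    obtain ⟨N, hN, hNdiv⟩ := W.exists_torus Φ hΦ D.bar hbar (MonoidHom.fst L L) (by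
      intro u v hu hv huv
      have hu2 : τ u.1 * u.2 = 1 := congrArg Prod.snd hu
      have hv2 : τ v.1 * v.2 = 1 := congrArg Prod.snd hv
      change u.1 = v.1 at huv
      rw [← huv] at hv2
      exact Prod.ext huv (mul_left_cancel₀ (left_ne_zero_of_mul_eq_one hu2) (hu2.trans hv2.symm)))
    refine ⟨N, hN, fun g => ?_⟩
    rcases W.dichotomy p hp g with h | ⟨sh, hs, -⟩
    · exact Or.inl h
    right
    obtain ⟨h1, h2⟩ := hshape _ sh hs
    have hdl : sh.f.natDegree ∣ l := by
      by_cases he : sh.g = sh.f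
      · obtain ⟨ho, hd⟩ := h1 he
        exact Nat.Coprime.dvd_of_dvd_mul_left (Nat.coprime_two_right.2 ho)
          (hd.trans (dvd_of_eq (by omega : n = 2 * l)))
      · exact (Nat.mul_dvd_mul_iff_left two_pos).1
          ((h2 he).trans (dvd_of_eq (by omega : n = 2 * l)))
    obtain ⟨x, hx⟩ := exists_root_of_dvd (L := L) sh.f_irr (hfr.symm ▸ hdl)
    have hu : D.bar (x, (τ x)⁻¹) * (x, (τ x)⁻¹) = 1 := by
      have hx0 : x ≠ 0 := by
        rintro rfl
        apply sh.f0
        rwa [aeval_def, eval₂_at_zero, map_eq_zero] at hx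
      refine Prod.ext ?_ ?_
      · show τ.symm (τ x)⁻¹ * x = 1
        rw [map_inv₀, RingEquiv.symm_apply_apply, inv_mul_cancel₀ hx0]
      · show τ x * (τ x)⁻¹ = 1
        exact mul_inv_cancel₀ (by simpa using hx0)
    obtain ⟨t, ht, hto⟩ := W.exists_of_shape Φ hΦ D.bar hbar sh hs hu
      (sh.minpoly_pair τ.toRingHom hτF hx)
    rw [← Model.orderOf_proj_pow p hp g, hto]
    exact hNdiv t ⟨_, hu, ht⟩
  · have : NeZero n := ⟨by omega⟩
    let L := FiniteField.Extension F p n
    have hfr : Module.finrank F L = n := FiniteField.finrank_extension F p n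
    obtain ⟨τ, hτ⟩ := exists_powEquiv (F := F) L p hp (a * n)
    have hτq : ∀ y : L, τ y = y ^ q ^ n := fun y => by rw [hqa, ← pow_mul]; exact hτ y
    have hτF : ∀ c : F, τ (algebraMap F L c) = algebraMap F L (σ c) := fun c => by
      rw [hτq, hσq, ← map_pow, hodd c n hno]
    have hτ2 : ∀ y : L, τ (τ y) = y := fun y => by
      have : Fintype L := Fintype.ofFinite L
      rw [hτq, hτq, ← pow_mul, ← pow_add, ← two_mul, pow_mul, ← hq,
        ← Nat.card_eq_fintype_card, ← FiniteField.natCard_extension F p n, Nat.card_eq_fintype_card]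
      exact FiniteField.pow_card y
    obtain ⟨c, hc⟩ := hσc
    obtain ⟨D, hD⟩ := Dat.exists_field (σ := σ) (ε := (1 : F)) hσ (one_mul 1) (map_one σ) τ hτ2
      hτF ⟨1, c, by rw [map_one, one_mul, ← add_smul, Ne, smul_eq_zero]; simp [hc]⟩
    obtain ⟨Φ, hΦ, hbar⟩ := exists_rep_unitary hσ hne D (n := n) hfr
    obtain ⟨N, hN, hNdiv⟩ := W.exists_torus Φ hΦ D.bar hbar (MonoidHom.id L) (fun _ _ _ _ h => h)
    refine ⟨N, hN, fun g => ?_⟩
    rcases W.dichotomy p hp g with h | ⟨sh, hs, -⟩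
    · exact Or.inl h
    right
    obtain ⟨h1, h2⟩ := hshape _ sh hs
    have hgf : sh.g = sh.f := by
      by_contra he
      obtain ⟨k, hk⟩ := h2 he
      obtain ⟨j, hj⟩ := hno
      rw [mul_assoc] at hk
      omega
    obtain ⟨-, hd⟩ := h1 hgf
    obtain ⟨x, hx⟩ := exists_root_of_dvd (L := L) sh.f_irr (hfr.symm ▸ hd)
    obtain ⟨τ', hτ'⟩ := exists_powEquiv (F := F) L p hp a
    obtain ⟨e, he⟩ := hd
    have heo : Odd e := (Nat.odd_mul.1 (he ▸ hno)).2
    have hu : D.bar x * x = 1 := by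
      rw [hD, hτq]
      refine (congrArg (fun m => x ^ q ^ m * x = 1) he).mpr ?_
      exact (sh.unitary_root hgf hq hσq τ'.toRingHom
        (fun y => by rw [hqa]; exact hτ' y) hx).2 e heo
    have hm : minpoly F x = sh.poly := by
      rcases sh.eq with ⟨-, e1⟩ | ⟨e1, -⟩
      · rw [e1]; exact (minpoly.eq_of_irreducible_of_monic sh.f_irr hx sh.f_monic).symm
      · exact absurd hgf e1
    obtain ⟨t, ht, hto⟩ := W.exists_of_shape Φ hΦ D.bar hbar sh hs hu hm
    rw [← Model.orderOf_proj_pow p hp g, hto]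
    exact hNdiv t ⟨_, hu, ht⟩

end CfsgLib.FormRep.Unitary
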