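import Mathlib

set_option autoImplicit false

/-!
Matrices preserving a form, through the adjoint anti-automorphism of the matrix algebra.
-/

namespace CfsgLib.FormRep

open Polynomial

/-- An adjoint map on `N × N` matrices, semilinear for the involution `σ` of `F`. -/
structure Adj (F : Type*) [Field F] (ι : Type*) [Fintype ι] [DecidableEq ι] where
  σ : F ≃+* F
  σσ : ∀ x, σ (σ x) = x
  ad : Matrix ι ι F → Matrix ι ι F
  ad_add : ∀ A B, ad (A + B) = ad A + ad B
  ad_smul : ∀ (c : F) A, ad (c • A) = σ c • ad A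
  ad_mul : ∀ A B, ad (A * B) = ad B * ad A
  ad_ad : ∀ A, ad (ad A) = A
  charpoly_ad : ∀ A, (ad A).charpoly = A.charpoly.map σ.toRingHom

variable {F : Type*} [Field F] {ι : Type*} [Fintype ι] [DecidableEq ι] (M : Adj F ι)

namespace Adj

theorem ad_zero : M.ad 0 = 0 := by
  have h := M.ad_add 0 0
  rw [add_zero] at h
  exact left_eq_add.1 h

theorem ad_one : M.ad 1 = 1 := by
  have h := M.ad_mul (M.ad 1) 1
  rw [mul_one, M.ad_ad, mul_one] at h
  exact h.symm

theorem ad_sub (A B : Matrix ι ι F) : M.ad (A - B) = M.ad A - M.ad B := by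
  rw [eq_sub_iff_add_eq, ← M.ad_add, sub_add_cancel]

theorem ad_pow (A : Matrix ι ι F) (k : ℕ) : M.ad (A ^ k) = M.ad A ^ k := by
  induction k with
  | zero => simp [M.ad_one]
  | succ k ih => rw [pow_succ, M.ad_mul, ih, pow_succ']

theorem ad_aeval (A : Matrix ι ι F) (h : F[X]) :
    M.ad (aeval A h) = aeval (M.ad A) (h.map M.σ.toRingHom) := by
  induction h using Polynomial.induction_on' with
  | add p q hp hq => simp [M.ad_add, hp, hq]
  | monomial k a =>
    rw [map_monomial, aeval_monomial, aeval_monomial, ← Algebra.smul_def, ← Algebra.smul_def,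
      M.ad_smul, M.ad_pow]
    rfl

theorem mul_ad {A : Matrix ι ι F} (hA : M.ad A * A = 1) : A * M.ad A = 1 := mul_eq_one_comm.1 hA

theorem det_ne_zero {A : Matrix ι ι F} (hA : M.ad A * A = 1) : A.det ≠ 0 := by
  intro h
  have := congrArg Matrix.det hA
  rw [Matrix.det_mul, h, mul_zero, Matrix.det_one] at this
  exact zero_ne_one this

theorem isom_mul {A B : Matrix ι ι F} (hA : M.ad A * A = 1) (hB : M.ad B * B = 1) :
    M.ad (A * B) * (A * B) = 1 := by
  rw [M.ad_mul, mul_assoc, ← mul_assoc (M.ad A), hA, one_mul, hB]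

theorem isom_pow {A : Matrix ι ι F} (hA : M.ad A * A = 1) (k : ℕ) :
    M.ad (A ^ k) * A ^ k = 1 := by
  induction k with
  | zero => simp [M.ad_one]
  | succ k ih => rw [pow_succ]; exact M.isom_mul ih hA

/-- The reversed conjugate of a polynomial. -/
noncomputable def cr (f : F[X]) : F[X] := (f.map M.σ.toRingHom).reverse

theorem cr_mul (f g : F[X]) : M.cr (f * g) = M.cr f * M.cr g := by
  rw [cr, Polynomial.map_mul, reverse_mul_of_domain]
  rfl

theorem map_map_σ (f : F[X]) : (f.map M.σ.toRingHom).map M.σ.toRingHom = f := by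
  ext k
  simp [M.σσ]

theorem cr_ne_zero {f : F[X]} (hf : f ≠ 0) : M.cr f ≠ 0 := by
  rw [Ne, cr, reverse_eq_zero]
  exact (Polynomial.map_ne_zero_iff M.σ.injective).2 hf

theorem natDegree_cr {f : F[X]} (hf : f.coeff 0 ≠ 0) : (M.cr f).natDegree = f.natDegree := by
  rw [cr, reverse_natDegree, natDegree_map]
  rw [natTrailingDegree_eq_zero.2 (Or.inr (by simpa using hf)), Nat.sub_zero]

theorem cr_cr {f : F[X]} (hf : f.coeff 0 ≠ 0) : M.cr (M.cr f) = f := by
  have h := M.natDegree_cr hf
  rw [cr, Polynomial.reverse, natDegree_map, h, cr, Polynomial.reverse, natDegree_map,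
    ← reflect_map, reflect_reflect, M.map_map_σ]

theorem coeff_zero_cr {f : F[X]} (hf : f ≠ 0) : (M.cr f).coeff 0 ≠ 0 := by
  rw [cr, coeff_zero_reverse]
  exact leadingCoeff_ne_zero.2 ((Polynomial.map_ne_zero_iff M.σ.injective).2 hf)

theorem cr_isUnit {f : F[X]} (hf : IsUnit f) : IsUnit (M.cr f) := by
  obtain ⟨c, hc, rfl⟩ := Polynomial.isUnit_iff.1 hf
  rw [cr, map_C, reverse_C, Polynomial.isUnit_C]
  exact hc.map _

theorem cr_irreducible {f : F[X]} (hf : Irreducible f) (hf0 : f.coeff 0 ≠ 0) :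
    Irreducible (M.cr f) := by
  have hd := hf.natDegree_pos
  refine ⟨fun hu => ?_, fun a b hab => ?_⟩
  · have := natDegree_eq_zero_of_isUnit hu
    rw [M.natDegree_cr hf0] at this
    omega
  have hne : a * b ≠ 0 := hab ▸ M.cr_ne_zero hf.ne_zero
  have h0 := M.coeff_zero_cr hf.ne_zero
  rw [hab, mul_coeff_zero] at h0
  have he : f = M.cr a * M.cr b := by rw [← M.cr_mul, ← hab, M.cr_cr hf0]
  rcases hf.isUnit_or_isUnit he with h | h
  · left
    have := M.cr_isUnit h
    rwa [M.cr_cr (left_ne_zero_of_mul h0)] at this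
  · right
    have := M.cr_isUnit h
    rwa [M.cr_cr (right_ne_zero_of_mul h0)] at this

theorem cr_associated {f g : F[X]} (h : Associated f g) : Associated (M.cr f) (M.cr g) := by
  obtain ⟨u, rfl⟩ := h
  rw [M.cr_mul]
  exact (associated_mul_unit_right _ _ (M.cr_isUnit u.isUnit))

theorem aeval_reflect_aux {B : Type*} [Ring B] [Algebra F B] {S Si : B} (hS : S * Si = 1)
    (D : ℕ) (h : F[X]) (hh : h.natDegree ≤ D) :
    aeval S (reflect D h) = S ^ D * aeval Si h := by
  have hc : ∀ k, S ^ k * Si ^ k = 1 := fun k => by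
    induction k with
    | zero => simp
    | succ k ih => rw [pow_succ, pow_succ', mul_assoc, ← mul_assoc S, hS, one_mul, ih]
  refine Polynomial.induction_with_natDegree_le
    (fun h => aeval S (reflect D h) = S ^ D * aeval Si h) D (by simp) ?_ ?_ h hh
  · intro k c _ hk
    simp only [reflect_C_mul_X_pow, revAt_le hk, map_mul, aeval_C, map_pow, aeval_X]
    rw [← mul_assoc, ← Algebra.commutes c (S ^ D), mul_assoc]
    congr 1
    rw [show S ^ D = S ^ (D - k) * S ^ k by rw [← pow_add, Nat.sub_add_cancel hk], mul_assoc, hc,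
      mul_one]
  · intro f g _ _ hf hg
    simp only [reflect_add, map_add, hf, hg, mul_add]

theorem aeval_cr {A : Matrix ι ι F} (hA : M.ad A * A = 1) (h : F[X]) :
    aeval A (M.cr h) = A ^ h.natDegree * M.ad (aeval A h) := by
  rw [cr, Polynomial.reverse, natDegree_map,
    aeval_reflect_aux (M.mul_ad hA) _ _ (natDegree_map_le), M.ad_aeval]

theorem minpoly_cr {A : Matrix ι ι F} (hA : M.ad A * A = 1) (h0 : (minpoly F A).coeff 0 ≠ 0) :
    Associated (minpoly F A) (M.cr (minpoly F A)) := by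
  have hm0 : minpoly F A ≠ 0 := minpoly.ne_zero (Matrix.isIntegral A)
  refine associated_of_dvd_of_natDegree_le (minpoly.dvd F A ?_) (M.cr_ne_zero hm0)
    (M.natDegree_cr h0).le
  rw [M.aeval_cr hA, minpoly.aeval, M.ad_zero, mul_zero]

theorem charpoly_cr {A : Matrix ι ι F} (hA : M.ad A * A = 1) :
    Associated A.charpoly (M.cr A.charpoly) := by
  have hu : IsUnit A := ⟨⟨A, M.ad A, M.mul_ad hA, hA⟩, rfl⟩
  have h1 := M.charpoly_ad A
  rw [← Matrix.inv_eq_left_inv hA, Matrix.charpoly_inv A hu, ← Matrix.reverse_charpoly] at h1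
  have h2 : Associated A.charpoly.reverse (A.charpoly.map M.σ.toRingHom) := by
    rw [← h1, mul_comm ((-1 : F[X]) ^ _)]
    refine associated_unit_mul_right _ _ ((IsUnit.map C ?_).mul (isUnit_one.neg.pow _))
    exact (Ne.isUnit (by simpa using M.det_ne_zero hA))
  have h3 := h2.map (Polynomial.mapRingHom M.σ.toRingHom)
  simp only [coe_mapRingHom, M.map_map_σ] at h3
  refine h3.symm.trans ?_
  rw [cr, Polynomial.reverse, Polynomial.reverse, natDegree_map, reflect_map]

end Adj

/-- An irreducible factor of the characteristic polynomial divides the minimal polynomial. -/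
theorem dvd_minpoly_of_dvd_charpoly {A : Matrix ι ι F} {q : F[X]} (hq : Irreducible q)
    (h : q ∣ A.charpoly) : q ∣ minpoly F A := by
  have := Fact.mk hq
  let K := AdjoinRoot q
  let A' : Matrix ι ι K := (Algebra.ofId F K).mapMatrix A
  obtain ⟨v, hv0, hv⟩ : ∃ v, v ≠ 0 ∧ (Matrix.scalar ι (AdjoinRoot.root q) - A').mulVec v = 0 := by
    rw [Matrix.exists_mulVec_eq_zero_iff, ← Matrix.eval_charpoly]
    obtain ⟨r, hr⟩ := h
    rw [show A' = A.map (algebraMap F K) from rfl, Matrix.charpoly_map, hr, Polynomial.map_mul,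
      eval_mul, Polynomial.eval_map_algebraMap, AdjoinRoot.aeval_eq, AdjoinRoot.mk_self, zero_mul]
  have hAv : A'.mulVec v = AdjoinRoot.root q • v := by
    rw [Matrix.sub_mulVec, sub_eq_zero] at hv
    rw [← hv, Matrix.scalar_apply, ← Matrix.smul_one_eq_diagonal, Matrix.smul_mulVec,
      Matrix.one_mulVec]
  have hpow : ∀ k, (A' ^ k).mulVec v = AdjoinRoot.root q ^ k • v := fun k => by
    induction k with
    | zero => simp
    | succ k ih => rw [pow_succ, ← Matrix.mulVec_mulVec, hAv, Matrix.mulVec_smul, ih, smul_smul,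
        ← pow_succ']
  have hae : ∀ p : F[X], (aeval A' p).mulVec v = aeval (AdjoinRoot.root q) p • v := fun p => by
    induction p using Polynomial.induction_on' with
    | add p r hp hr => simp [Matrix.add_mulVec, hp, hr, add_smul]
    | monomial k a =>
      rw [aeval_monomial, aeval_monomial, ← Algebra.smul_def, ← Algebra.smul_def,
        Matrix.smul_mulVec, hpow, smul_assoc]
  have h0 := hae (minpoly F A)
  rw [show aeval A' (minpoly F A) = 0 by
    rw [Polynomial.aeval_algHom_apply, minpoly.aeval, map_zero], Matrix.zero_mulVec] at h0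
  rcases smul_eq_zero.1 h0.symm with h1 | h1
  · rwa [AdjoinRoot.aeval_eq, AdjoinRoot.mk_eq_zero] at h1
  · exact absurd h1 hv0

variable {M}

/-- The self-dual shapes of minimal polynomials with no invariant non-degenerate splitting. -/
structure Adj.Shape (M : Adj F ι) where
  poly : F[X]
  f : F[X]
  g : F[X]
  f_monic : f.Monic
  g_monic : g.Monic
  f_irr : Irreducible f
  g_irr : Irreducible g
  f0 : f.coeff 0 ≠ 0
  assoc : Associated g (M.cr f)
  deg : g.natDegree = f.natDegree
  eq : (g = f ∧ poly = f) ∨ (g ≠ f ∧ poly = f * g)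

theorem Adj.Shape.dvd_iff (s : M.Shape) {h : F[X]} :
    s.poly ∣ h ↔ s.f ∣ h ∧ s.g ∣ h := by
  rcases s.eq with ⟨e, he⟩ | ⟨e, he⟩ <;> rw [he]
  · rw [e]; simp
  · refine ⟨fun hd => ⟨(dvd_mul_right _ _).trans hd, (dvd_mul_left _ _).trans hd⟩, fun hd => ?_⟩
    refine IsCoprime.mul_dvd ?_ hd.1 hd.2
    refine (Irreducible.coprime_iff_not_dvd s.f_irr).2 fun hdd => e ?_
    exact eq_of_monic_of_associated s.g_monic s.f_monic
      (s.f_irr.associated_of_dvd s.g_irr hdd).symm

theorem Adj.Shape.eq_of_irreducible_dvd (s : M.Shape) {q : F[X]} (hq : Irreducible q)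
    (hm : q ∣ s.poly) : Associated q s.f ∨ Associated q s.g := by
  rcases s.eq with ⟨e, he⟩ | ⟨e, he⟩ <;> rw [he] at hm
  · exact Or.inl (hq.associated_of_dvd s.f_irr hm)
  · rcases hq.prime.dvd_or_dvd hm with h | h
    · exact Or.inl (hq.associated_of_dvd s.f_irr h)
    · exact Or.inr (hq.associated_of_dvd s.g_irr h)

/-- Split charpoly of an isometry: `χ ~ f ^ a * g ^ a` or `χ ~ f ^ a`. -/
theorem Adj.Shape.charpoly_eq {A : Matrix ι ι F} (hA : M.ad A * A = 1)
    (s : M.Shape) (hs : minpoly F A = s.poly) :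
    ∃ a : ℕ, A.charpoly = s.poly ^ a := by
  classical
  have hχ : ∀ h : F[X], h ≠ 0 → h.Monic → h ∣ A.charpoly → (∀ q, Irreducible q → q ∣ h →
      Associated q s.f ∨ Associated q s.g) → ∃ a b, h = s.f ^ a * s.g ^ b := by
    intro h
    induction hd : h.natDegree using Nat.strong_induction_on generalizing h with
    | _ d ih =>
      intro h0 hm hdvd hq
      by_cases hu : IsUnit h
      · exact ⟨0, 0, by rw [pow_zero, pow_zero, mul_one, hm.isUnit_iff.1 hu]⟩
      obtain ⟨q, hqi, r, rfl⟩ := WfDvdMonoid.exists_irreducible_factor hu h0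
      have hr : ∀ c : F[X], Associated q c → c.Monic → Irreducible c →
          ∃ r', q * r = c * r' ∧ r'.Monic ∧ r'.natDegree < d ∧ r' ≠ 0 ∧ r' ∣ A.charpoly ∧
          ∀ q', Irreducible q' → q' ∣ r' → Associated q' s.f ∨ Associated q' s.g := by
        intro c hc hcm hci
        obtain ⟨r', hr'⟩ := hc.symm.dvd.trans (dvd_mul_right q r)
        have hrm : r'.Monic := hcm.of_mul_monic_left (hr' ▸ hm)
        refine ⟨r', hr', hrm, ?_, hrm.ne_zero, (Dvd.intro_left c hr'.symm).trans hdvd,
          fun q' h' hd' => hq q' h' (hd'.trans (Dvd.intro_left c hr'.symm))⟩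
        rw [← hd, hr', hcm.natDegree_mul hrm]
        have := hci.natDegree_pos
        omega
      rcases hq q hqi (dvd_mul_right _ _) with hc | hc
      · obtain ⟨r', e, hrm, hlt, hr0, hrd, hrq⟩ := hr s.f hc s.f_monic s.f_irr
        obtain ⟨a, b, he⟩ := ih _ hlt r' rfl hr0 hrm hrd hrq
        exact ⟨a + 1, b, by rw [e, he, pow_succ']; ring⟩
      · obtain ⟨r', e, hrm, hlt, hr0, hrd, hrq⟩ := hr s.g hc s.g_monic s.g_irr
        obtain ⟨a, b, he⟩ := ih _ hlt r' rfl hr0 hrm hrd hrq
        exact ⟨a, b + 1, by rw [e, he, pow_succ']; ring⟩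
  obtain ⟨a, b, he⟩ := hχ A.charpoly A.charpoly_monic.ne_zero A.charpoly_monic dvd_rfl
    fun q hq hd => s.eq_of_irreducible_dvd hq (hs ▸ dvd_minpoly_of_dvd_charpoly hq hd)
  rcases s.eq with ⟨e, hm⟩ | ⟨e, hm⟩
  · exact ⟨a + b, by rw [he, hm, e, pow_add]⟩
  refine ⟨a, ?_⟩
  have hgf : Associated (M.cr s.g) s.f := by
    have := M.cr_associated s.assoc
    rwa [M.cr_cr s.f0] at this
  have hcr : ∀ k, Associated (M.cr (s.f ^ k)) (s.g ^ k) ∧ Associated (M.cr (s.g ^ k)) (s.f ^ k) := by
    intro k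
    induction k with
    | zero => exact ⟨associated_one_iff_isUnit.2 (M.cr_isUnit (by simp)) |>.trans (by rw [pow_zero]),
        associated_one_iff_isUnit.2 (M.cr_isUnit (by simp)) |>.trans (by rw [pow_zero])⟩
    | succ k ih =>
      simp only [pow_succ, M.cr_mul]
      exact ⟨ih.1.mul_mul s.assoc.symm, ih.2.mul_mul hgf⟩
  have h1 := M.charpoly_cr hA
  rw [he, M.cr_mul] at h1
  have h2 : s.f ^ a * s.g ^ b = s.g ^ a * s.f ^ b :=
    eq_of_monic_of_associated ((s.f_monic.pow a).mul (s.g_monic.pow b))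
      ((s.g_monic.pow a).mul (s.f_monic.pow b)) (h1.trans ((hcr a).1.mul_mul (hcr b).2))
  have hnd : ∀ {x y : F[X]} (k : ℕ), x.Monic → y.Monic → Irreducible x → Irreducible y →
      x ^ k = y ^ k → x ≠ y → k = 0 := by
    intro x y k hx hy hxi hyi hk hne
    by_contra h0
    exact hne (eq_of_monic_of_associated hx hy (hxi.associated_of_dvd hyi
      (hxi.prime.dvd_of_dvd_pow (hk ▸ dvd_pow_self x h0))))
  have hab : a = b := by
    rcases Nat.le_total a b with h | h
    · obtain ⟨k, rfl⟩ := Nat.exists_eq_add_of_le h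
      have h3 : (s.f * s.g) ^ a * s.g ^ k = (s.f * s.g) ^ a * s.f ^ k := by
        rw [pow_add, pow_add] at h2; rw [mul_pow]; linear_combination h2
      have := hnd k s.g_monic s.f_monic s.g_irr s.f_irr
        (mul_left_cancel₀ (pow_ne_zero _ (mul_ne_zero s.f_irr.ne_zero s.g_irr.ne_zero)) h3) e
      omega
    · obtain ⟨k, rfl⟩ := Nat.exists_eq_add_of_le h
      have h3 : (s.f * s.g) ^ b * s.f ^ k = (s.f * s.g) ^ b * s.g ^ k := by
        rw [pow_add, pow_add] at h2; rw [mul_pow]; linear_combination h2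
      have := hnd k s.f_monic s.g_monic s.f_irr s.g_irr
        (mul_left_cancel₀ (pow_ne_zero _ (mul_ne_zero s.f_irr.ne_zero s.g_irr.ne_zero)) h3) (Ne.symm e)
      omega
  rw [he, hm, hab, mul_pow]

/-- Two isometries with the same self-dual minimal polynomial have equal characteristic polynomial. -/
theorem Adj.Shape.charpoly_congr {A B : Matrix ι ι F} (hA : M.ad A * A = 1) (hB : M.ad B * B = 1)
    (s : M.Shape) (hs : minpoly F A = s.poly) (h : minpoly F B = s.poly) :
    B.charpoly = A.charpoly := by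
  obtain ⟨a, ha⟩ := s.charpoly_eq hA hs
  obtain ⟨b, hb⟩ := s.charpoly_eq hB h
  have hpos : 0 < s.poly.natDegree := by
    rcases s.eq with ⟨e, hm⟩ | ⟨e, hm⟩ <;> rw [hm]
    · exact s.f_irr.natDegree_pos
    · rw [s.f_monic.natDegree_mul s.g_monic]
      have := s.f_irr.natDegree_pos
      omega
  have h1 := congrArg natDegree ha
  have h2 := congrArg natDegree hb
  rw [Matrix.charpoly_natDegree_eq_dim, natDegree_pow] at h1 h2
  rw [ha, hb, Nat.eq_of_mul_eq_mul_right hpos (h2.symm.trans h1)]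

/-- Either a nontrivial self-adjoint idempotent commutes, or the minimal polynomial has a
self-dual shape. -/
theorem Adj.dichotomy [Nonempty ι] {S : Matrix ι ι F} (hS : M.ad S * S = 1)
    (hsq : Squarefree (minpoly F S)) :
    (∃ E : Matrix ι ι F, IsIdempotentElem E ∧ E ≠ 0 ∧ E ≠ 1 ∧ M.ad E = E ∧
      ∀ A, Commute A S → Commute A E) ∨ ∃ s : M.Shape, minpoly F S = s.poly := by
  set m := minpoly F S with hm
  have hmon : m.Monic := minpoly.monic (Matrix.isIntegral S)
  have hm0 : m.coeff 0 ≠ 0 := by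
    intro h
    obtain ⟨r, hr⟩ := X_dvd_iff.2 h
    have h1 : S * aeval S r = 0 := by
      have := minpoly.aeval F S
      rw [← hm, hr, map_mul, aeval_X] at this
      exact this
    have h2 : aeval S r = 0 := by
      have := congrArg (M.ad S * ·) h1
      simpa [← mul_assoc, hS] using this
    have h3 := natDegree_le_of_dvd (minpoly.dvd F S h2)
      (right_ne_zero_of_mul (hr ▸ hmon.ne_zero))
    rw [← hm, hr, natDegree_mul X_ne_zero (right_ne_zero_of_mul (hr ▸ hmon.ne_zero)), natDegree_X]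
      at h3
    omega
  obtain ⟨f, hf, hfi, hfd⟩ := Polynomial.exists_monic_irreducible_factor m (minpoly.not_isUnit F S)
  have hf0 : f.coeff 0 ≠ 0 := fun h => hm0 (by
    obtain ⟨r, hr⟩ := hfd; rw [hr, mul_coeff_zero, h, zero_mul])
  have hcm := M.minpoly_cr hS hm0
  classical
  set g := normalize (M.cr f) with hg
  have hga : Associated g (M.cr f) := normalize_associated _
  have hgi : Irreducible g := hga.symm.irreducible (M.cr_irreducible hfi hf0)
  have hgmon : g.Monic := monic_normalize (M.cr_ne_zero hfi.ne_zero)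
  have hgd : g ∣ m := by
    obtain ⟨r, hr⟩ := hfd
    refine hga.dvd.trans ((Dvd.intro (M.cr r) ?_).trans hcm.symm.dvd)
    rw [← hm, hr, M.cr_mul]
  have hcrg : Associated (M.cr g) f := by
    have := M.cr_associated hga
    rwa [M.cr_cr hf0] at this
  have hdeg : g.natDegree = f.natDegree := by
    rw [Polynomial.natDegree_eq_of_degree_eq (degree_eq_degree_of_associated hga),
      M.natDegree_cr hf0]
  obtain ⟨h, hh, hhm, hhcr, hh1, hshape⟩ : ∃ h : F[X], h ∣ m ∧ h.Monic ∧ Associated (M.cr h) h ∧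
      ¬ IsUnit h ∧ (m = h → ∃ s : M.Shape, m = s.poly) := by
    by_cases hfg : g = f
    · exact ⟨f, hfd, hf, (hga.symm.trans (hfg ▸ Associated.refl g)), hfi.not_isUnit, fun e =>
        ⟨⟨m, f, g, hf, hgmon, hfi, hgi, hf0, hga, hdeg, Or.inl ⟨hfg, e⟩⟩, rfl⟩⟩
    · refine ⟨f * g, IsCoprime.mul_dvd ((Irreducible.coprime_iff_not_dvd hfi).2 fun hd =>
          hfg (eq_of_monic_of_associated hgmon hf (hfi.associated_of_dvd hgi hd).symm)) hfd hgd,
        hf.mul hgmon, ?_, fun hu => hfi.not_isUnit (isUnit_of_mul_isUnit_left hu), fun e =>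
        ⟨⟨m, f, g, hf, hgmon, hfi, hgi, hf0, hga, hdeg, Or.inr ⟨hfg, e⟩⟩, rfl⟩⟩
      rw [M.cr_mul, mul_comm f g]
      exact hga.symm.mul_mul hcrg
  obtain ⟨k, hk⟩ := hh
  by_cases hku : IsUnit k
  · right
    have hkm : k.Monic := hhm.of_mul_monic_left (hk ▸ hmon)
    exact hshape (by rw [hk, hkm.isUnit_iff.1 hku, mul_one])
  left
  have hkcr : Associated (M.cr k) k := by
    have h1 : Associated (h * k) (h * M.cr k) := by
      rw [← hk]
      refine hcm.trans ?_
      rw [← hm, hk, M.cr_mul]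
      exact hhcr.mul_right _
    exact (Associated.of_mul_left h1 (Associated.refl h) hhm.ne_zero).symm
  obtain ⟨a, b, hab⟩ : IsCoprime k h :=
    IsRelPrime.isCoprime fun d d1 d2 => hsq d (hk ▸ mul_dvd_mul d2 d1)
  set E := aeval S (a * k) with hE
  have hEh : E * aeval S h = 0 := by
    rw [hE, ← map_mul, show a * k * h = m * a by rw [hk]; ring, map_mul, minpoly.aeval, zero_mul]
  have hEb : aeval S (b * h) = 1 - E := by
    rw [eq_sub_iff_add_eq', hE, ← map_add, hab, map_one]
  have hEk : E * aeval S k = aeval S k := by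
    have : (1 - E) * aeval S k = 0 := by
      rw [← hEb, ← map_mul, show b * h * k = m * b by rw [hk]; ring, map_mul, minpoly.aeval,
        zero_mul]
    rw [sub_mul, one_mul, sub_eq_zero] at this
    exact this.symm
  have hcomm : ∀ A, Commute A S → ∀ q : F[X], Commute A (aeval S q) := fun A hA q => by
    induction q using Polynomial.induction_on' with
    | add p r hp hr => rw [map_add]; exact hp.add_right hr
    | monomial j c =>
      rw [aeval_monomial]
      exact (Algebra.commute_algebraMap_right c A).mul_right (hA.pow_right j)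
  have hES : ∀ q : F[X], Commute E (aeval S q) := fun q => by
    rw [hE]; exact ((Commute.all (a * k) q).map (aeval S).toRingHom.toMonoidHom)
  have hadS : Commute (M.ad E) S := by
    have h1 : M.ad E * M.ad S = M.ad S * M.ad E := by
      rw [← M.ad_mul, ← M.ad_mul]
      have := (hES X).eq
      rw [aeval_X] at this
      rw [this]
    exact (show Commute (M.ad E) (M.ad S) from h1).units_inv_right
      (u := ⟨M.ad S, S, hS, M.mul_ad hS⟩)
  have hfix : ∀ x : F[X], Associated (M.cr x) x → ∀ e : Matrix ι ι F, E * aeval S x = e →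
      ∃ d : ℕ, ∃ u : F[X], aeval S x = S ^ d * M.ad (aeval S x) * aeval S u ∧
        M.ad E * aeval S x = S ^ d * M.ad e * aeval S u := by
    intro x hx e he
    obtain ⟨u, hu⟩ := hx
    have h1 : aeval S x = S ^ x.natDegree * M.ad (aeval S x) * aeval S (u : F[X]) := by
      conv_lhs => rw [← hu, map_mul, M.aeval_cr hS]
    refine ⟨_, _, h1, ?_⟩
    conv_lhs => rw [h1]
    rw [← mul_assoc, ← mul_assoc, (hadS.pow_right _).eq, mul_assoc (S ^ _), ← M.ad_mul,
      ← (hES x).eq, he]
  have hEad_h : M.ad E * aeval S h = 0 := by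
    obtain ⟨d, u, -, h2⟩ := hfix h hhcr 0 hEh
    rw [h2, M.ad_zero, mul_zero, zero_mul]
  have hEad_k : M.ad E * aeval S k = aeval S k := by
    obtain ⟨d, u, h1, h2⟩ := hfix k hkcr _ hEk
    rw [h2, ← h1]
  have hadE : M.ad E = E := by
    have h1 : M.ad E * E = E := by
      conv_lhs => arg 2; rw [hE, mul_comm a k, map_mul]
      rw [← mul_assoc, hEad_k, ← map_mul, mul_comm k a]
    have h2 : M.ad E * E = M.ad E := by
      rw [show E = 1 - aeval S (b * h) by rw [hEb, sub_sub_cancel], mul_sub, mul_one]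
      rw [mul_comm b h, map_mul, ← mul_assoc]
      rw [show (1 - aeval S h * aeval S b) = E by rw [← map_mul, mul_comm h b, hEb, sub_sub_cancel],
        hEad_h, zero_mul, sub_zero]
    rw [← h2, h1]
  refine ⟨E, ?_, fun h0 => hh1 ?_, fun h1 => hku ?_, hadE, fun A hA => hcomm A hA _⟩
  · show E * E = E
    nth_rw 2 [hE]
    rw [mul_comm a k, map_mul, ← mul_assoc, hEk, ← map_mul, mul_comm k a]
  · have hd : h ∣ a * k := (Dvd.intro _ hk.symm).trans (minpoly.dvd F S h0)
    exact isUnit_of_dvd_one (hab ▸ dvd_add hd (dvd_mul_left h b))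
  · have hd : k ∣ b * h := (Dvd.intro_left _ hk.symm).trans (minpoly.dvd F S (by
      rw [hEb, h1, sub_self]))
    exact isUnit_of_dvd_one (hab ▸ dvd_add (dvd_mul_left k a) hd)

end CfsgLib.FormRep
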