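import Mathlib

/-!
# Splitting a self-dual coprime representation into alternating and symmetric parts
-/

set_option autoImplicit false
set_option linter.style.haveILetI false

namespace CfsgLib.SelfDual

variable {F : Type*} [Field F] {V : Type*} [AddCommGroup V] [Module F V]
  {G : Type*} [Group G] (ρ : Representation F G V)

/-- Invariant subspace. -/
def Inv (U : Submodule F V) : Prop := ∀ g : G, ∀ u ∈ U, ρ g u ∈ U

/-- No nonzero vector of `U` is left orthogonal to all of `U`. -/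
def Nd (B : LinearMap.BilinForm F V) (U : Submodule F V) : Prop :=
  ∀ x ∈ U, (∀ y ∈ U, B x y = 0) → x = 0

/-- The form is invariant on `U`. -/
def InvOn (B : LinearMap.BilinForm F V) (U : Submodule F V) : Prop :=
  ∀ g : G, ∀ x ∈ U, ∀ y ∈ U, B (ρ g x) (ρ g y) = B x y

/-- `U` is invariant and has only the trivial invariant subspaces. -/
def Irr (U : Submodule F V) : Prop :=
  Inv ρ U ∧ ∀ W ≤ U, Inv ρ W → W = ⊥ ∨ W = U

/-- `U` carries a nondegenerate invariant alternating form. -/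
def GoodA (U : Submodule F V) : Prop :=
  Inv ρ U ∧ ∃ A : LinearMap.BilinForm F V, (∀ x, A x x = 0) ∧ InvOn ρ A U ∧ Nd A U

/-- `U` carries a nondegenerate invariant symmetric form, and is trivial if `p = 2`. -/
def GoodS (p : ℕ) (U : Submodule F V) : Prop :=
  Inv ρ U ∧ (∃ S : LinearMap.BilinForm F V, (∀ x y, S x y = S y x) ∧ InvOn ρ S U ∧ Nd S U) ∧
    (p = 2 → ∀ g : G, ∀ w ∈ U, ρ g w = w)

theorem inv_mem {U : Submodule F V} (hU : Inv ρ U) (g : G) {v : V} (hv : ρ g v ∈ U) : v ∈ U := by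
  have := hU g⁻¹ _ hv
  rwa [Representation.inv_self_apply] at this

theorem Inv.inf {U W : Submodule F V} (hU : Inv ρ U) (hW : Inv ρ W) : Inv ρ (U ⊓ W) :=
  fun g u hu => Submodule.mem_inf.mpr ⟨hU g u (Submodule.mem_inf.mp hu).1, hW g u (Submodule.mem_inf.mp hu).2⟩

theorem Inv.sup {U W : Submodule F V} (hU : Inv ρ U) (hW : Inv ρ W) : Inv ρ (U ⊔ W) := by
  intro g x hx
  obtain ⟨u, hu, w, hw, rfl⟩ := Submodule.mem_sup.mp hx
  rw [map_add]
  exact Submodule.add_mem_sup (hU g u hu) (hW g w hw)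

theorem inv_bot : Inv ρ (⊥ : Submodule F V) := fun g u hu => by
  rw [Submodule.mem_bot] at hu ⊢; rw [hu, map_zero]

theorem good_bot (p : ℕ) : GoodA ρ (⊥ : Submodule F V) ∧ GoodS ρ p (⊥ : Submodule F V) := by
  refine ⟨⟨inv_bot ρ, 0, fun _ => rfl, fun _ _ _ _ _ => rfl, fun x hx _ => by simpa using hx⟩,
    inv_bot ρ, ⟨0, fun _ _ => rfl, fun _ _ _ _ _ => rfl, fun x hx _ => by simpa using hx⟩, ?_⟩
  intro _ g w hw
  rw [Submodule.mem_bot] at hw
  rw [hw, map_zero]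

/-- A projection onto `X` killing `Y`. -/
theorem exists_proj {X Y : Submodule F V} (h : Disjoint X Y) :
    ∃ π : V →ₗ[F] V, (∀ v, π v ∈ X) ∧ (∀ x ∈ X, π x = x) ∧ ∀ y ∈ Y, π y = 0 := by
  obtain ⟨D, hD⟩ := Submodule.exists_isCompl (X ⊔ Y)
  have hC : IsCompl X (Y ⊔ D) :=
    ⟨h.disjoint_sup_right_of_disjoint_sup_left hD.disjoint,
      codisjoint_iff.mpr (by rw [← sup_assoc]; exact hD.sup_eq_top)⟩
  exact ⟨X.projection (Y ⊔ D) hC, Submodule.projection_apply_mem hC,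
    fun x hx => Submodule.projection_apply_of_mem_left hC hx,
    fun y hy => Submodule.projection_apply_of_mem_right hC (Submodule.mem_sup_left hy)⟩

theorem sup_split {X Y : Submodule F V} (hX : Inv ρ X) (hY : Inv ρ Y) (h : Disjoint X Y)
    (A B : LinearMap.BilinForm F V) (hA : InvOn ρ A X) (hB : InvOn ρ B Y) (hAn : Nd A X) (hBn : Nd B Y) :
    ∃ C : LinearMap.BilinForm F V, InvOn ρ C (X ⊔ Y) ∧ Nd C (X ⊔ Y) ∧
      ((∀ x, A x x = 0) → (∀ x, B x x = 0) → ∀ x, C x x = 0) ∧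
      ((∀ x y, A x y = A y x) → (∀ x y, B x y = B y x) → ∀ x y, C x y = C y x) := by
  obtain ⟨π, hπ, hπX, hπY⟩ := exists_proj h
  obtain ⟨τ, hτ, hτY, hτX⟩ := exists_proj h.symm
  refine ⟨A.compl₁₂ π π + B.compl₁₂ τ τ, ?_, ?_, fun h1 h2 x => ?_, fun h1 h2 x y => ?_⟩
  · intro g u hu v hv
    obtain ⟨a, ha, b, hb, rfl⟩ := Submodule.mem_sup.mp hu
    obtain ⟨c, hc, d, hd, rfl⟩ := Submodule.mem_sup.mp hv
    simp only [LinearMap.add_apply, LinearMap.compl₁₂_apply, map_add, hπX a ha, hπX c hc, hπY b hb,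
      hπY d hd, hπX _ (hX g a ha), hπX _ (hX g c hc), hπY _ (hY g b hb), hπY _ (hY g d hd),
      hτY b hb, hτY d hd, hτX a ha, hτX c hc, hτY _ (hY g b hb), hτY _ (hY g d hd),
      hτX _ (hX g a ha), hτX _ (hX g c hc), add_zero, zero_add, map_zero, LinearMap.zero_apply,
      hA g a ha c hc, hB g b hb d hd]
  · intro u hu hzero
    obtain ⟨a, ha, b, hb, rfl⟩ := Submodule.mem_sup.mp hu
    have h1 : a = 0 := hAn a ha fun c hc => by
      have := hzero c (Submodule.mem_sup_left hc)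
      simpa [hπX a ha, hπY b hb, hπX c hc, hτX c hc] using this
    have h2 : b = 0 := hBn b hb fun d hd => by
      have := hzero d (Submodule.mem_sup_right hd)
      simpa [hτX a ha, hτY b hb, hτY d hd, hπY d hd] using this
    rw [h1, h2, add_zero]
  · simp [h1, h2]
  · simp only [LinearMap.add_apply, LinearMap.compl₁₂_apply]
    rw [h1, h2]

theorem GoodA.sup {X Y : Submodule F V} (hX : GoodA ρ X) (hY : GoodA ρ Y) (h : Disjoint X Y) :
    GoodA ρ (X ⊔ Y) := by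
  obtain ⟨hXi, A, hA, hAi, hAn⟩ := hX
  obtain ⟨hYi, B, hB, hBi, hBn⟩ := hY
  obtain ⟨C, hC1, hC2, hC3, -⟩ := sup_split ρ hXi hYi h A B hAi hBi hAn hBn
  exact ⟨hXi.sup ρ hYi, C, hC3 hA hB, hC1, hC2⟩

theorem GoodS.sup {p : ℕ} {X Y : Submodule F V} (hX : GoodS ρ p X) (hY : GoodS ρ p Y)
    (h : Disjoint X Y) : GoodS ρ p (X ⊔ Y) := by
  obtain ⟨hXi, ⟨A, hA, hAi, hAn⟩, hXt⟩ := hX
  obtain ⟨hYi, ⟨B, hB, hBi, hBn⟩, hYt⟩ := hY
  obtain ⟨C, hC1, hC2, -, hC4⟩ := sup_split ρ hXi hYi h A B hAi hBi hAn hBn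
  refine ⟨hXi.sup ρ hYi, ⟨C, hC4 hA hB, hC1, hC2⟩, fun hp g x hx => ?_⟩
  obtain ⟨u, hu, w, hw, rfl⟩ := Submodule.mem_sup.mp hx
  rw [map_add, hXt hp g u hu, hYt hp g w hw]

/-- Maschke, by averaging a projection. -/
theorem exists_inv_compl [Finite G] (hG : (Nat.card G : F) ≠ 0) {X : Submodule F V} (hX : Inv ρ X) :
    ∃ D : Submodule F V, IsCompl X D ∧ Inv ρ D := by
  haveI := Fintype.ofFinite G
  obtain ⟨π, hπ, hπX, -⟩ := exists_proj (X := X) (Y := ⊥) disjoint_bot_right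
  let P : V →ₗ[F] V := (Nat.card G : F)⁻¹ • ∑ g : G, ρ g ∘ₗ π ∘ₗ ρ g⁻¹
  have hPa : ∀ v, P v = (Nat.card G : F)⁻¹ • ∑ g : G, ρ g (π (ρ g⁻¹ v)) := fun v => by
    simp [P, LinearMap.sum_apply]
  have hPmem : ∀ v, P v ∈ X := fun v => by
    rw [hPa]
    exact X.smul_mem _ (X.sum_mem fun g _ => hX g _ (hπ _))
  have hPfix : ∀ x ∈ X, P x = x := fun x hx => by
    rw [hPa, Finset.sum_congr rfl (g := fun _ => x) fun g _ => by
      rw [hπX _ (hX _ _ hx), Representation.self_inv_apply]]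
    rw [Finset.sum_const, Finset.card_univ, ← Nat.card_eq_fintype_card, ← Nat.cast_smul_eq_nsmul F,
      inv_smul_smul₀ hG]
  have hPeq : ∀ h v, P (ρ h v) = ρ h (P v) := fun h v => by
    rw [hPa, hPa, map_smul, map_sum]
    congr 1
    refine Fintype.sum_equiv (Equiv.mulLeft h⁻¹) _ _ fun g => ?_
    simp only [Equiv.coe_mulLeft, mul_inv_rev, inv_inv, map_mul, Module.End.mul_apply,
      Representation.self_inv_apply]
  refine ⟨LinearMap.ker P, LinearMap.IsProj.isCompl ⟨hPmem, hPfix⟩, fun g v hv => ?_⟩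
  rw [LinearMap.mem_ker] at hv ⊢
  rw [hPeq, hv, map_zero]

variable {ρ}

/-- An invariant complement inside an invariant subspace. -/
theorem exists_compl_in [Finite G] (hG : (Nat.card G : F) ≠ 0) {X Z : Submodule F V} (hX : Inv ρ X)
    (hZ : Inv ρ Z) (h : X ≤ Z) :
    ∃ D ≤ Z, Inv ρ D ∧ Disjoint X D ∧ X ⊔ D = Z := by
  obtain ⟨D, hD, hDi⟩ := exists_inv_compl ρ hG hX
  refine ⟨D ⊓ Z, inf_le_right, hDi.inf ρ hZ, hD.disjoint.mono_right inf_le_left, ?_⟩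
  rw [← sup_inf_assoc_of_le D h, hD.sup_eq_top, top_inf_eq]

theorem exists_irr [FiniteDimensional F V] {Z : Submodule F V} (hZ : Inv ρ Z) (h : Z ≠ ⊥) :
    ∃ M ≤ Z, M ≠ ⊥ ∧ Irr ρ M := by
  obtain ⟨M, ⟨hMi, hMZ, hM0⟩, hmin⟩ := wellFounded_lt.has_min
    {U : Submodule F V | Inv ρ U ∧ U ≤ Z ∧ U ≠ ⊥} ⟨Z, hZ, le_rfl, h⟩
  refine ⟨M, hMZ, hM0, hMi, fun W hW hWi => ?_⟩
  by_contra hcon
  push Not at hcon
  exact hmin W ⟨hWi, hW.trans hMZ, hcon.1⟩ (lt_of_le_of_ne hW hcon.2)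

section Form

variable (B : LinearMap.BilinForm F V) (hB : ∀ g : G, ∀ x y : V, B (ρ g x) (ρ g y) = B x y)

include hB in
theorem form_move (g : G) (x y : V) : B (ρ g x) y = B x (ρ g⁻¹ y) := by
  conv_lhs => rw [← Representation.self_inv_apply ρ g y, hB]

include hB in
/-- Vectors of `X` left orthogonal to `Y`. -/
theorem inv_perp {X Y : Submodule F V} (hX : Inv ρ X) (hY : Inv ρ Y) :
    ∃ L : Submodule F V, Inv ρ L ∧ ∀ x, x ∈ L ↔ x ∈ X ∧ ∀ y ∈ Y, B x y = 0 := by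
  refine ⟨{ carrier := {x | x ∈ X ∧ ∀ y ∈ Y, B x y = 0}
            add_mem' := fun {a b} ha hb => ⟨X.add_mem ha.1 hb.1, fun y hy => by
              rw [map_add, LinearMap.add_apply, ha.2 y hy, hb.2 y hy, add_zero]⟩
            zero_mem' := ⟨X.zero_mem, fun y _ => by simp⟩
            smul_mem' := fun c a ha => ⟨X.smul_mem c ha.1, fun y hy => by
              rw [map_smul, LinearMap.smul_apply, ha.2 y hy, smul_zero]⟩ },
    fun g x hx => ⟨hX g x hx.1, fun y hy => ?_⟩, fun x => Iff.rfl⟩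
  rw [form_move B hB]
  exact hx.2 _ (hY _ _ hy)

include hB in
/-- An irreducible subspace pairing nontrivially pairs nondegenerately. -/
theorem pair_left {M Y : Submodule F V} (hM : Irr ρ M) (hY : Inv ρ Y)
    (hne : ∃ x ∈ M, ∃ y ∈ Y, B x y ≠ 0) : ∀ x ∈ M, (∀ y ∈ Y, B x y = 0) → x = 0 := by
  obtain ⟨L, hLi, hL⟩ := inv_perp B hB hM.1 hY
  intro x hx h
  rcases hM.2 L (fun z hz => ((hL z).mp hz).1) hLi with h0 | h0
  · have := (hL x).mpr ⟨hx, h⟩
    rw [h0, Submodule.mem_bot] at this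
    exact this
  · obtain ⟨a, ha, b, hb, hab⟩ := hne
    exact absurd (((hL a).mp (h0 ▸ ha)).2 b hb) hab

variable {B} [FiniteDimensional F V]

theorem represent {X : Submodule F V} (hX : Nd B X) (f : V →ₗ[F] F) :
    ∃ x ∈ X, ∀ y ∈ X, B x y = f y := by
  let φ : X →ₗ[F] Module.Dual F X := B.compl₁₂ X.subtype X.subtype
  have hinj : Function.Injective φ := by
    rw [← LinearMap.ker_eq_bot, LinearMap.ker_eq_bot']
    intro x hx
    exact Subtype.ext (hX x x.2 fun y hy => LinearMap.congr_fun hx ⟨y, hy⟩)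
  obtain ⟨x, hx⟩ := (LinearMap.injective_iff_surjective_of_finrank_eq_finrank
    Subspace.dual_finrank_eq.symm).mp hinj (f ∘ₗ X.subtype)
  exact ⟨x, x.2, fun y hy => LinearMap.congr_fun hx ⟨y, hy⟩⟩

theorem nd_flip {X : Submodule F V} (hX : Nd B X) : Nd B.flip X := by
  intro x hx h
  by_contra hx0
  obtain ⟨f, hf⟩ : ∃ f : V →ₗ[F] F, f x ≠ 0 := by
    by_contra hcon
    push Not at hcon
    exact hx0 ((Module.forall_dual_apply_eq_zero_iff F x).mp hcon)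
  obtain ⟨u, hu, huf⟩ := represent hX f
  exact hf (by rw [← huf x hx]; exact h u hu)

include hB in
/-- The orthogonal splitting off of a nondegenerate subspace. -/
theorem split_off {X Z : Submodule F V} (hX : Inv ρ X) (hZ : Inv ρ Z) (hXZ : X ≤ Z) (hXn : Nd B X)
    (hZn : Nd B Z) : ∃ R ≤ Z, Inv ρ R ∧ Disjoint X R ∧ X ⊔ R = Z ∧ Nd B R := by
  obtain ⟨R, hRi, hR⟩ := inv_perp B.flip (fun g x y => hB g y x) hZ hX
  have hRX : ∀ r ∈ R, ∀ x ∈ X, B x r = 0 := fun r hr x hx => ((hR r).mp hr).2 x hx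
  have hdisj : Disjoint X R := by
    rw [Submodule.disjoint_def]
    exact fun x hx hxR => nd_flip hXn x hx fun y hy => hRX x hxR y hy
  refine ⟨R, fun r hr => ((hR r).mp hr).1, hRi, hdisj, le_antisymm (sup_le hXZ fun r hr => ((hR r).mp hr).1) ?_, ?_⟩
  · intro z hz
    obtain ⟨x, hx, hxz⟩ := represent (nd_flip hXn) (B.flip z)
    have : z - x ∈ R := (hR _).mpr ⟨Z.sub_mem hz (hXZ hx), fun y hy => by
      rw [map_sub, LinearMap.sub_apply, ← hxz y hy, sub_self]⟩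
    simpa using Submodule.add_mem_sup hx this
  · intro y hy hyR
    obtain ⟨x, hx, hxy⟩ := represent hXn (B y)
    have hyZ := ((hR y).mp hy).1
    have h0 : y - x = 0 := by
      refine hZn _ (Z.sub_mem hyZ (hXZ hx)) fun v hv => ?_
      have hv' : v ∈ X ⊔ R := by
        obtain ⟨a, ha, haz⟩ := represent (nd_flip hXn) (B.flip v)
        have : v - a ∈ R := (hR _).mpr ⟨Z.sub_mem hv (hXZ ha), fun w hw => by
          rw [map_sub, LinearMap.sub_apply, ← haz w hw, sub_self]⟩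
        simpa using Submodule.add_mem_sup ha this
      obtain ⟨a, ha, b, hb, rfl⟩ := Submodule.mem_sup.mp hv'
      rw [map_add, map_sub, LinearMap.sub_apply, LinearMap.sub_apply, hxy a ha, sub_self, hyR b hb,
        hRX b hb x hx, sub_zero, add_zero]
    rw [sub_eq_zero] at h0
    exact Submodule.disjoint_def.mp hdisj y (h0 ▸ hx) hy

include hB in
/-- An irreducible subspace on which the form does not vanish. -/
theorem irr_case (p : ℕ) [CharP F p] [Finite F] {M : Submodule F V} (hM : Irr ρ M)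
    (hne : ∃ x ∈ M, ∃ y ∈ M, B x y ≠ 0) : Nd B M ∧ (GoodA ρ M ∨ GoodS ρ p M) := by
  have hn : Nd B M := pair_left B hB hM hM.1 hne
  refine ⟨hn, ?_⟩
  obtain ⟨π, hπ, hπM, -⟩ := exists_proj (X := M) (Y := ⊥) disjoint_bot_right
  have hmv : ∀ g x, x ∈ M → π (ρ g x) = ρ g x := fun g x hx => hπM _ (hM.1 g x hx)
  by_cases hsym : ∀ x ∈ M, ∀ y ∈ M, B x y = B y x
  · obtain ⟨S, hSi, hSn, hSa⟩ : ∃ S : LinearMap.BilinForm F V, InvOn ρ S M ∧ Nd S M ∧
        (∀ x y, S x y = B (π x) (π y)) :=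
      ⟨B.compl₁₂ π π, fun g x hx y hy => by
        simp [hπM x hx, hπM y hy, hmv g x hx, hmv g y hy, hB],
        fun x hx h => hn x hx fun y hy => by simpa [hπM x hx, hπM y hy] using h y hy, fun _ _ => rfl⟩
    by_cases halt : ∀ x ∈ M, B x x = 0
    · exact Or.inl ⟨hM.1, S, fun x => by rw [hSa]; exact halt _ (hπ x), hSi, hSn⟩
    refine Or.inr ⟨hM.1, ⟨S, fun x y => by rw [hSa, hSa]; exact hsym _ (hπ x) _ (hπ y), hSi, hSn⟩, ?_⟩
    intro hp g w hw
    subst hp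
    have h2 : ∀ a : F, a + a = 0 := CharTwo.add_self_eq_zero
    have hadd : ∀ a ∈ M, ∀ b ∈ M, B (a + b) (a + b) = B a a + B b b := by
      intro a ha b hb
      have h3 : B a b + B b a = 0 := by rw [hsym b hb a ha]; exact h2 _
      simp only [map_add, LinearMap.add_apply]
      linear_combination h3
    let K : Submodule F V :=
      { carrier := {x | x ∈ M ∧ B x x = 0}
        add_mem' := fun {a b} ha hb => ⟨M.add_mem ha.1 hb.1, by rw [hadd a ha.1 b hb.1, ha.2, hb.2, add_zero]⟩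
        zero_mem' := ⟨M.zero_mem, by simp⟩
        smul_mem' := fun c a ha => ⟨M.smul_mem c ha.1, by simp [ha.2]⟩ }
    have hK : K = ⊥ := by
      refine (hM.2 K (fun x hx => hx.1) fun g x hx => ⟨hM.1 g x hx.1, by rw [hB]; exact hx.2⟩).resolve_right ?_
      exact fun h => halt fun x hx => ((h.symm ▸ hx : x ∈ K)).2
    have hmem : ρ g w + w ∈ K := ⟨M.add_mem (hM.1 g w hw) hw, by
      rw [hadd _ (hM.1 g w hw) w hw, hB]; exact h2 _⟩
    rw [hK, Submodule.mem_bot, add_eq_zero_iff_eq_neg] at hmem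
    rw [hmem]
    calc -w = (-1 : F) • w := (neg_one_smul F w).symm
      _ = w := by rw [CharTwo.neg_eq, one_smul]
  · push Not at hsym
    obtain ⟨a, ha, b, hb, hab⟩ := hsym
    refine Or.inl ⟨hM.1, B.compl₁₂ π π - B.flip.compl₁₂ π π, fun x => by simp, ?_, ?_⟩
    · intro g x hx y hy
      simp [hπM x hx, hπM y hy, hmv g x hx, hmv g y hy, hB]
    · intro x hx h
      refine pair_left (B - B.flip) (fun g x y => by simp [hB]) hM hM.1
        ⟨a, ha, b, hb, by simpa [sub_eq_zero] using hab⟩ x hx fun y hy => ?_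
      simpa [hπM x hx, hπM y hy] using h y hy

include hB in
/-- Two totally isotropic irreducible subspaces pairing both ways. -/
theorem pair_case {M Y : Submodule F V} (hM : Irr ρ M) (hY : Irr ρ Y)
    (hMM : ∀ x ∈ M, ∀ y ∈ M, B x y = 0) (hYY : ∀ x ∈ Y, ∀ y ∈ Y, B x y = 0)
    (h1 : ∃ x ∈ M, ∃ y ∈ Y, B x y ≠ 0) (h2 : ∃ x ∈ Y, ∃ y ∈ M, B x y ≠ 0) :
    Nd B (M ⊔ Y) ∧ GoodA ρ (M ⊔ Y) := by
  have hl := pair_left B hB hM hY.1 h1
  have hl' := pair_left B hB hY hM.1 h2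
  have hr : ∀ y ∈ Y, (∀ x ∈ M, B x y = 0) → y = 0 :=
    pair_left B.flip (fun g x y => hB g y x) hY hM.1 (by
      obtain ⟨x, hx, y, hy, h⟩ := h1
      exact ⟨y, hy, x, hx, h⟩)
  have hd : Disjoint M Y := by
    rw [Submodule.disjoint_def]
    intro x hx hxY
    exact hl x hx fun y hy => hYY x hxY y hy
  refine ⟨fun z hz h => ?_, hM.1.sup ρ hY.1, ?_⟩
  · obtain ⟨m, hm, y, hy, rfl⟩ := Submodule.mem_sup.mp hz
    have hy0 : y = 0 := hl' y hy fun x hx => by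
      simpa [hMM m hm x hx] using h x (Submodule.mem_sup_left hx)
    have hm0 : m = 0 := hl m hm fun x hx => by
      simpa [hYY y hy x hx] using h x (Submodule.mem_sup_right hx)
    rw [hy0, hm0, add_zero]
  obtain ⟨π, -, hπM, hπY⟩ := exists_proj hd
  obtain ⟨τ, -, hτY, hτM⟩ := exists_proj hd.symm
  refine ⟨B.compl₁₂ π τ - (B.compl₁₂ π τ).flip, fun x => by simp, ?_, ?_⟩
  · intro g u hu v hv
    obtain ⟨a, ha, b, hb, rfl⟩ := Submodule.mem_sup.mp hu
    obtain ⟨c, hc, d, hd, rfl⟩ := Submodule.mem_sup.mp hv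
    simp [hπM a ha, hπM c hc, hπY b hb, hπY d hd, hπM _ (hM.1 g a ha), hπM _ (hM.1 g c hc),
      hπY _ (hY.1 g b hb), hπY _ (hY.1 g d hd), hτY b hb, hτY d hd, hτM a ha, hτM c hc,
      hτY _ (hY.1 g b hb), hτY _ (hY.1 g d hd), hτM _ (hM.1 g a ha), hτM _ (hM.1 g c hc), hB]
  · intro u hu hzero
    obtain ⟨a, ha, b, hb, rfl⟩ := Submodule.mem_sup.mp hu
    have ha0 : a = 0 := hl a ha fun d hd => by
      simpa [hπM a ha, hπY b hb, hτM a ha, hτY b hb, hπY d hd, hτY d hd]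
        using hzero d (Submodule.mem_sup_right hd)
    have hb0 : b = 0 := hr b hb fun c hc => by
      simpa [hπM a ha, hπY b hb, hτM a ha, hτY b hb, hπM c hc, hτM c hc]
        using hzero c (Submodule.mem_sup_left hc)
    rw [ha0, hb0, add_zero]

theorem finrank_le_of_pairing {M N : Submodule F V} (b : LinearMap.BilinForm F V)
    (h : ∀ x ∈ M, (∀ y ∈ N, b x y = 0) → x = 0) : Module.finrank F M ≤ Module.finrank F N := by
  let φ : M →ₗ[F] Module.Dual F N := b.compl₁₂ M.subtype N.subtype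
  have hinj : Function.Injective φ := by
    rw [← LinearMap.ker_eq_bot, LinearMap.ker_eq_bot']
    exact fun x hx => Subtype.ext (h x x.2 fun y hy => LinearMap.congr_fun hx ⟨y, hy⟩)
  exact (LinearMap.finrank_le_finrank_of_injective hinj).trans_eq Subspace.dual_finrank_eq

include hB in
/-- An irreducible subspace of `Z` pairing with a given isotropic one. -/
theorem exists_partner [Finite G] (hG : (Nat.card G : F) ≠ 0) {M Z : Submodule F V} (hM : Irr ρ M)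
    (hM0 : M ≠ ⊥) (hMZ : M ≤ Z) (hZ : Inv ρ Z) (hZn : Nd B Z) :
    ∃ N ≤ Z, Irr ρ N ∧ (∀ x ∈ M, (∀ y ∈ N, B x y = 0) → x = 0) ∧
      (∀ y ∈ N, (∀ x ∈ M, B x y = 0) → y = 0) ∧ Module.finrank F N = Module.finrank F M := by
  obtain ⟨R, hRi, hR⟩ := inv_perp B.flip (fun g x y => hB g y x) hZ hM.1
  obtain ⟨N, hNZ, hNi, hRN, hsup⟩ := exists_compl_in hG hRi hZ fun r hr => ((hR r).mp hr).1
  have hNr : ∀ y ∈ N, (∀ x ∈ M, B x y = 0) → y = 0 := fun y hy h =>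
    Submodule.disjoint_def.mp hRN y ((hR y).mpr ⟨hNZ hy, h⟩) hy
  have hkill : ∀ W ≤ N, Inv ρ W → W ≠ ⊥ → ∀ x ∈ M, (∀ y ∈ W, B x y = 0) → x = 0 := by
    intro W hW hWi hW0
    refine pair_left B hB hM hWi ?_
    by_contra hcon
    push Not at hcon
    exact hW0 ((Submodule.eq_bot_iff W).mpr fun y hy => hNr y (hW hy) fun x hx => hcon x hx y hy)
  have hN0 : N ≠ ⊥ := by
    intro h0
    rw [h0, sup_bot_eq] at hsup
    apply hM0
    rw [Submodule.eq_bot_iff]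
    exact fun x hx => hZn x (hMZ hx) fun z hz => ((hR z).mp (hsup ▸ hz)).2 x hx
  have hle : Module.finrank F N ≤ Module.finrank F M := finrank_le_of_pairing B.flip hNr
  have hl := hkill N le_rfl hNi hN0
  refine ⟨N, hNZ, ⟨hNi, fun W hW hWi => ?_⟩, hl, hNr, le_antisymm hle (finrank_le_of_pairing B hl)⟩
  by_cases hW0 : W = ⊥
  · exact Or.inl hW0
  · exact Or.inr (Submodule.eq_of_le_of_finrank_le hW
      (hle.trans (finrank_le_of_pairing B (hkill W hW hWi hW0))))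

include hB in
/-- A nonzero nondegenerate invariant subspace with a good form. -/
theorem exists_piece [Finite G] (hG : (Nat.card G : F) ≠ 0) (p : ℕ) [CharP F p] [Finite F]
    {Z : Submodule F V} (hZ : Inv ρ Z) (hZn : Nd B Z) (hZ0 : Z ≠ ⊥) :
    ∃ X ≤ Z, X ≠ ⊥ ∧ Inv ρ X ∧ Nd B X ∧ (GoodA ρ X ∨ GoodS ρ p X) := by
  obtain ⟨M, hMZ, hM0, hM⟩ := exists_irr hZ hZ0
  by_cases hMne : ∃ x ∈ M, ∃ y ∈ M, B x y ≠ 0
  · obtain ⟨h1, h2⟩ := irr_case hB p hM hMne
    exact ⟨M, hMZ, hM0, hM.1, h1, h2⟩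
  push Not at hMne
  obtain ⟨m₀, hm₀, hm₀ne⟩ := (Submodule.ne_bot_iff M).mp hM0
  have fin : ∀ Y ≤ Z, Irr ρ Y → (∃ x ∈ M, ∃ y ∈ Y, B x y ≠ 0) → (∃ x ∈ Y, ∃ y ∈ M, B x y ≠ 0) →
      ∃ X ≤ Z, X ≠ ⊥ ∧ Inv ρ X ∧ Nd B X ∧ (GoodA ρ X ∨ GoodS ρ p X) := by
    intro Y hYZ hY h1 h2
    by_cases hYne : ∃ x ∈ Y, ∃ y ∈ Y, B x y ≠ 0
    · obtain ⟨h3, h4⟩ := irr_case hB p hY hYne
      refine ⟨Y, hYZ, fun h0 => ?_, hY.1, h3, h4⟩
      obtain ⟨x, hx, y, hy, hxy⟩ := h2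
      rw [h0, Submodule.mem_bot] at hx
      exact hxy (by rw [hx, map_zero, LinearMap.zero_apply])
    push Not at hYne
    obtain ⟨h3, h4⟩ := pair_case hB hM hY hMne hYne h1 h2
    exact ⟨M ⊔ Y, sup_le hMZ hYZ, fun h0 => hM0 (eq_bot_iff.mpr (h0 ▸ le_sup_left)),
      hM.1.sup ρ hY.1, h3, Or.inl h4⟩
  obtain ⟨N, hNZ, hN, hNl, hNr, hNd⟩ := exists_partner hB hG hM hM0 hMZ hZ hZn
  obtain ⟨C, hCZ, hC, hCl, hCr, hCd⟩ :=
    exists_partner (B := B.flip) (fun g x y => hB g y x) hG hM hM0 hMZ hZ (nd_flip hZn)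
  have hN1 : ∃ x ∈ M, ∃ y ∈ N, B x y ≠ 0 := by
    by_contra hcon
    push Not at hcon
    exact hm₀ne (hNl m₀ hm₀ (hcon m₀ hm₀))
  have hC2 : ∃ x ∈ C, ∃ y ∈ M, B x y ≠ 0 := by
    by_contra hcon
    push Not at hcon
    exact hm₀ne (hCl m₀ hm₀ fun y hy => hcon y hy m₀ hm₀)
  by_cases hN2 : ∃ x ∈ N, ∃ y ∈ M, B x y ≠ 0
  · exact fin N hNZ hN hN1 hN2
  by_cases hC1 : ∃ x ∈ M, ∃ y ∈ C, B x y ≠ 0
  · exact fin C hCZ hC hC1 hC2
  push Not at hN2 hC1
  -- the equivariant map `θ : N → C` with `B (θ n) m = B m n`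
  let eC : C →ₗ[F] Module.Dual F M := B.compl₁₂ C.subtype M.subtype
  let eN : N →ₗ[F] Module.Dual F M := B.flip.compl₁₂ N.subtype M.subtype
  have hinj : Function.Injective eC := by
    rw [← LinearMap.ker_eq_bot, LinearMap.ker_eq_bot']
    exact fun x hx => Subtype.ext (hCr x x.2 fun y hy => LinearMap.congr_fun hx ⟨y, hy⟩)
  have hsur : Function.Surjective eC :=
    (LinearMap.injective_iff_surjective_of_finrank_eq_finrank
      (hCd.trans Subspace.dual_finrank_eq.symm)).mp hinj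
  let e := LinearEquiv.ofBijective eC ⟨hinj, hsur⟩
  let θ : N →ₗ[F] V := C.subtype ∘ₗ e.symm.toLinearMap ∘ₗ eN
  have hθC : ∀ n : N, θ n ∈ C := fun n => (e.symm (eN n)).2
  have hθ : ∀ (n : N) (m : V), m ∈ M → B (θ n) m = B m n := fun n m hm =>
    (LinearMap.congr_fun (e.apply_symm_apply (eN n)) ⟨m, hm⟩ : _)
  have hθeq : ∀ g (n : N), θ ⟨ρ g n, hN.1 g n n.2⟩ = ρ g (θ n) := by
    intro g n
    rw [← sub_eq_zero]
    refine hCr _ (C.sub_mem (hθC _) (hC.1 g _ (hθC n))) fun m hm => ?_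
    show B (θ ⟨ρ g n, hN.1 g n n.2⟩ - ρ g (θ n)) m = 0
    rw [map_sub, LinearMap.sub_apply, hθ _ m hm, form_move B hB g (θ n) m, hθ n _ (hM.1 _ m hm)]
    show B m (ρ g n) - B (ρ g⁻¹ m) n = 0
    rw [form_move B hB g⁻¹ m, inv_inv, sub_self]
  let ι : N →ₗ[F] V := N.subtype + θ
  have hιa : ∀ n : N, ι n = (n : V) + θ n := fun n => rfl
  have hYi : Inv ρ (LinearMap.range ι) := by
    rintro g _ ⟨n, rfl⟩
    exact ⟨⟨ρ g n, hN.1 g n n.2⟩, by rw [hιa, hιa, map_add, hθeq]⟩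
  have hY : Irr ρ (LinearMap.range ι) := by
    refine ⟨hYi, fun W hW hWi => ?_⟩
    let W' : Submodule F V := (W.comap ι).map N.subtype
    have hW' : W' ≤ N := Submodule.map_subtype_le _ _
    have hW'i : Inv ρ W' := by
      rintro g _ ⟨n, hn, rfl⟩
      refine ⟨⟨ρ g n, hN.1 g n n.2⟩, ?_, rfl⟩
      have := hWi g _ (Submodule.mem_comap.mp hn)
      rw [SetLike.mem_coe, Submodule.mem_comap, hιa, hθeq, ← map_add]
      exact this
    rcases hN.2 W' hW' hW'i with h | h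
    · left
      rw [Submodule.eq_bot_iff]
      intro x hx
      obtain ⟨n, rfl⟩ := hW hx
      have : (n : V) ∈ W' := ⟨n, hx, rfl⟩
      rw [h, Submodule.mem_bot] at this
      rw [show n = 0 from Subtype.ext this, map_zero]
    · right
      refine le_antisymm hW ?_
      rintro _ ⟨n, rfl⟩
      obtain ⟨k, hk, hkn⟩ := (h.symm ▸ n.2 : (n : V) ∈ W')
      rw [← show k = n from Subtype.ext hkn]
      exact hk
  obtain ⟨x, hx, y, hy, hxy⟩ := hN1
  refine fin _ ?_ hY ⟨x, hx, ι ⟨y, hy⟩, ⟨_, rfl⟩, ?_⟩ ⟨ι ⟨y, hy⟩, ⟨_, rfl⟩, x, hx, ?_⟩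
  · rintro _ ⟨n, rfl⟩
    exact Z.add_mem (hNZ n.2) (hCZ (hθC n))
  · rw [hιa, map_add, hC1 x hx _ (hθC _), add_zero]
    exact hxy
  · rw [hιa, map_add, LinearMap.add_apply, hθ _ x hx, hN2 y hy x hx, zero_add]
    exact hxy

include hB in
theorem split [Finite G] (hG : (Nat.card G : F) ≠ 0) (p : ℕ) [CharP F p] [Finite F] :
    ∀ (n : ℕ) (Z : Submodule F V), Module.finrank F Z = n → Inv ρ Z → Nd B Z →
      ∃ U W : Submodule F V, Disjoint U W ∧ U ⊔ W = Z ∧ GoodA ρ U ∧ GoodS ρ p W := by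
  intro n
  induction n using Nat.strong_induction_on with
  | _ n IH =>
  intro Z hn hZ hZn
  by_cases hZ0 : Z = ⊥
  · exact ⟨⊥, ⊥, disjoint_bot_left, by rw [hZ0, sup_bot_eq], (good_bot ρ p).1, (good_bot ρ p).2⟩
  obtain ⟨X, hXZ, hX0, hX, hXn, hgood⟩ := exists_piece hB hG p hZ hZn hZ0
  obtain ⟨R, hRZ, hR, hd, hsup, hRn⟩ := split_off hB hX hZ hXZ hXn hZn
  have hlt : Module.finrank F R < n := by
    rw [← hn]
    refine Submodule.finrank_lt_finrank_of_lt (lt_of_le_of_ne hRZ fun h => hX0 ?_)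
    exact hd.eq_bot_of_le (h.symm ▸ hXZ)
  obtain ⟨U, W, hUW, hs, hU, hW⟩ := IH _ hlt R rfl hR hRn
  have hUR : U ≤ R := hs ▸ le_sup_left
  have hWR : W ≤ R := hs ▸ le_sup_right
  rw [← hs] at hd
  rcases hgood with h | h
  · exact ⟨X ⊔ U, W, hUW.disjoint_sup_left_of_disjoint_sup_right hd,
      by rw [sup_assoc, hs, hsup], GoodA.sup ρ h hU (hd.mono_right le_sup_left), hW⟩
  · refine ⟨U, X ⊔ W, ?_, by rw [← sup_assoc, sup_comm U, sup_assoc, hs, hsup], hU,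
      GoodS.sup ρ h hW (hd.mono_right le_sup_right)⟩
    rw [sup_comm U W] at hd
    exact (hUW.symm.disjoint_sup_left_of_disjoint_sup_right hd).symm

end Form

end CfsgLib.SelfDual
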