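import Cfsg.Agent.Lib.FormRep.Adj
import Cfsg.Agent.Lib.Classical.Forms
import Cfsg.Prelude.Def_Classical

set_option autoImplicit false

/-!
Commutative algebras with involution, represented inside unitary and symplectic groups.
-/

namespace CfsgLib.FormRep

open Polynomial Module
open scoped Matrix

variable {F : Type*} [Field F]

/-- An involution and a non-degenerate functional, giving an `ε`-Hermitian form `λ (a * bar b)`. -/
structure Dat (σ : F ≃+* F) (ε : F) (R : Type*) [CommRing R] [Algebra F R] where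
  bar : R ≃+* R
  bar_bar : ∀ a, bar (bar a) = a
  bar_algebraMap : ∀ c : F, bar (algebraMap F R c) = algebraMap F R (σ c)
  func : R →ₗ[F] F
  func_bar : ∀ a, func (bar a) = ε * σ (func a)
  nondeg : ∀ a, (∀ r, func (a * r) = 0) → a = 0

variable {σ : F ≃+* F} {ε : F}

namespace Dat

variable {R : Type*} [CommRing R] [Algebra F R]

theorem bar_smul (D : Dat σ ε R) (c : F) (a : R) : D.bar (c • a) = σ c • D.bar a := by
  rw [Algebra.smul_def, map_mul, D.bar_algebraMap, ← Algebra.smul_def]

variable {R₂ : Type*} [CommRing R₂] [Algebra F R₂]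

/-- Orthogonal sum. -/
def prod (D : Dat σ ε R) (D₂ : Dat σ ε R₂) : Dat σ ε (R × R₂) where
  bar := RingEquiv.prodCongr D.bar D₂.bar
  bar_bar a := Prod.ext (D.bar_bar _) (D₂.bar_bar _)
  bar_algebraMap c := Prod.ext (D.bar_algebraMap c) (D₂.bar_algebraMap c)
  func := D.func.coprod D₂.func
  func_bar a := by
    show D.func (D.bar a.1) + D₂.func (D₂.bar a.2) = ε * σ (D.func a.1 + D₂.func a.2)
    rw [D.func_bar, D₂.func_bar, map_add, mul_add]
  nondeg a h := Prod.ext
    (D.nondeg _ fun r => by simpa using h (r, 0))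
    (D₂.nondeg _ fun r => by simpa using h (0, r))

/-- Hyperbolic algebra `R × R`. -/
def hyper (hσ : ∀ x, σ (σ x) = x) (hε : ε * ε = 1) (hεσ : σ ε = ε) (τ : R ≃+* R)
    (hτ : ∀ c : F, τ (algebraMap F R c) = algebraMap F R (σ c)) (f : R →ₗ[F] F)
    (hf : ∀ a, (∀ r, f (a * r) = 0) → a = 0) : Dat σ ε (R × R) where
  bar :=
    { toFun := fun a => (τ.symm a.2, τ a.1)
      invFun := fun a => (τ.symm a.2, τ a.1)
      left_inv := fun a => by simp
      right_inv := fun a => by simp
      map_mul' := fun a b => by simp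
      map_add' := fun a b => by simp }
  bar_bar a := by simp
  bar_algebraMap c := by
    refine Prod.ext ?_ (hτ c)
    show τ.symm (algebraMap F R c) = algebraMap F R (σ c)
    rw [RingEquiv.symm_apply_eq, hτ, hσ]
  func :=
    { toFun := fun a => f a.1 + ε * σ (f (τ.symm a.2))
      map_add' := fun a b => by simp; ring
      map_smul' := fun c a => by
        have h : τ.symm (c • a.2) = σ c • τ.symm a.2 := by
          rw [RingEquiv.symm_apply_eq, Algebra.smul_def, Algebra.smul_def, map_mul, hτ, hσ,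
            RingEquiv.apply_symm_apply]
        simp only [Prod.smul_fst, Prod.smul_snd, map_smul, smul_eq_mul, h, map_mul, hσ,
          RingHom.id_apply]
        ring }
  func_bar a := by
    show f (τ.symm a.2) + ε * σ (f (τ.symm (τ a.1))) = ε * σ (f a.1 + ε * σ (f (τ.symm a.2)))
    rw [RingEquiv.symm_apply_apply, map_add, map_mul, hσ, hεσ]
    linear_combination (1 - ε * ε) * 0 - f (τ.symm a.2) * hε
  nondeg a h := by
    refine Prod.ext (hf _ fun r => by simpa using h (r, 0)) ?_
    have h2 : τ.symm a.2 = 0 := hf _ fun r => by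
      have h3 := h (0, τ r)
      simp at h3
      rcases h3 with h3 | h3
      · simp [h3] at hε
      · exact h3
    simpa using congrArg τ h2

/-- A finite extension field with an extension of `σ`. -/
theorem exists_field {L : Type*} [Field L] [Algebra F L] (hσ : ∀ x, σ (σ x) = x) (hε : ε * ε = 1)
    (hεσ : σ ε = ε) (τ : L ≃+* L) (hτ2 : ∀ a, τ (τ a) = a)
    (hτ : ∀ c : F, τ (algebraMap F L c) = algebraMap F L (σ c))
    (hne : ∃ (a : L) (c : F), c • a + (ε * σ c) • τ a ≠ 0) :
    ∃ D : Dat σ ε L, D.bar = τ := by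
  obtain ⟨a, c, hne⟩ := hne
  obtain ⟨f, hf⟩ : ∃ f : L →ₗ[F] F, f (c • a + (ε * σ c) • τ a) ≠ 0 := by
    by_contra hcon
    simp only [not_exists, not_not] at hcon
    exact hne ((Module.forall_dual_apply_eq_zero_iff F _).1 hcon)
  have hsm : ∀ (c : F) (b : L), τ (c • b) = σ c • τ b := fun c b => by
    rw [Algebra.smul_def, map_mul, hτ, ← Algebra.smul_def]
  let G : (L →ₗ[F] F) → (L →ₗ[F] F) := fun f =>
    { toFun := fun b => f b + ε * σ (f (τ b))
      map_add' := fun x y => by simp; ring
      map_smul' := fun d b => by simp [hsm, hσ]; ring }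
  obtain ⟨f', hg⟩ : ∃ f', G f' ≠ 0 := by
    by_contra hcon
    simp only [not_exists, not_not] at hcon
    have key : ∀ (d : F) (b : L), d * f b + ε * σ (d * f (τ b)) = 0 := fun d b => by
      simpa [G] using LinearMap.congr_fun (hcon (d • f)) b
    apply hf
    simp only [map_add, map_smul, smul_eq_mul]
    have h1 : f (τ a) + ε * σ (f a) = 0 := by simpa [hτ2] using key 1 (τ a)
    by_cases ha : f a = 0
    · rw [ha, map_zero, mul_zero, add_zero] at h1
      rw [ha, h1]; ring
    · have hid : ∀ d, σ d = d := fun d => by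
        have h2 := key 1 a
        have h3 := key d a
        simp only [map_mul, one_mul, map_one] at h2 h3
        have h4 : (σ d - d) * f a = 0 := by linear_combination σ d * h2 - h3
        exact sub_eq_zero.1 ((mul_eq_zero.1 h4).resolve_right ha)
      rw [hid] at h1 ⊢
      linear_combination ε * c * h1 - c * f a * hε
  refine ⟨⟨τ, hτ2, hτ, G f', fun b => ?_, fun b hb => ?_⟩, rfl⟩
  · simp only [G, LinearMap.coe_mk, AddHom.coe_mk, hτ2, map_add, map_mul, hσ, hεσ]
    linear_combination -(f' (τ b)) * hε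
  · by_contra h0
    refine hg (LinearMap.ext fun r => ?_)
    have := hb (b⁻¹ * r)
    rwa [mul_inv_cancel_left₀ h0] at this

/-- Coordinate algebra with `σ` in each coordinate. -/
def pi (hσ : ∀ x, σ (σ x) = x) (hε : ε = 1) (ι : Type*) [Fintype ι] : Dat σ ε (ι → F) where
  bar :=
    { toFun := fun a i => σ (a i)
      invFun := fun a i => σ (a i)
      left_inv := fun a => funext fun i => hσ _
      right_inv := fun a => funext fun i => hσ _
      map_mul' := fun a b => funext fun i => map_mul σ _ _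
      map_add' := fun a b => funext fun i => map_add σ _ _ }
  bar_bar a := funext fun i => hσ _
  bar_algebraMap c := rfl
  func := ∑ i, LinearMap.proj i
  func_bar a := by simp [hε]
  nondeg a h := funext fun i => by
    classical
    simpa [Pi.single_apply] using h (Pi.single i 1)

/-- The functional on coordinates. -/
theorem sum_proj_nondeg {ι : Type*} [Fintype ι] (a : ι → F)
    (h : ∀ r, (∑ i, (LinearMap.proj i : (ι → F) →ₗ[F] F)) (a * r) = 0) : a = 0 := funext fun i => by
  classical
  simpa [Pi.single_apply] using h (Pi.single i 1)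

/-- The truncated algebra `F[X]/(X - 1)^n` with `X ↦ X⁻¹`. -/
theorem exists_unipotent (hσ : ∀ x, σ (σ x) = x) (hε : ε * ε = 1) (hεσ : σ ε = ε) (n : ℕ)
    (hn : 0 < n) (hc : ∃ c : F, c + (-1) ^ (n - 1) * ε * σ c ≠ 0) :
    ∃ D : Dat σ ε (AdjoinRoot ((X - C 1 : F[X]) ^ n)),
      D.bar (AdjoinRoot.root _) * AdjoinRoot.root _ = 1 := by
  set P : F[X] := (X - C 1) ^ n with hP
  set R := AdjoinRoot P
  set x : R := AdjoinRoot.root P with hx
  have hxn : (x - 1) ^ n = 0 := by
    have := AdjoinRoot.mk_self (f := P)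
    rw [hP, map_pow, map_sub, AdjoinRoot.mk_X, map_one, map_one] at this
    exact this
  obtain ⟨ux, hux⟩ : IsUnit x := by
    have h : IsNilpotent (x - 1) := ⟨n, hxn⟩
    simpa using h.isUnit_one_add
  set v : R := ↑ux⁻¹ with hv
  have hvx : v * x = 1 := by rw [hv, ← hux]; exact ux.inv_mul
  have hv1 : v - 1 = -v * (x - 1) := by linear_combination hvx
  have hlift : P.eval₂ ((algebraMap F R).comp σ.toRingHom) v = 0 := by
    show eval₂ _ v ((X - C 1 : F[X]) ^ n) = 0
    rw [eval₂_pow, eval₂_sub, eval₂_X, eval₂_C, map_one, hv1, mul_pow, hxn, mul_zero]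
  set φ : R →+* R := AdjoinRoot.lift _ v hlift with hφ
  have hφC : ∀ c : F, φ (algebraMap F R c) = algebraMap F R (σ c) := fun c =>
    AdjoinRoot.lift_of hlift
  have hφx : φ x = v := AdjoinRoot.lift_root hlift
  have hφφ : ∀ a, φ (φ a) = a := by
    intro a
    induction a using AdjoinRoot.induction_on with
    | _ q =>
      induction q using Polynomial.induction_on' with
      | add p r hp hr => simp [hp, hr]
      | monomial k c =>
        rw [← C_mul_X_pow_eq_monomial, map_mul, map_pow, AdjoinRoot.mk_X, AdjoinRoot.mk_C]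
        show φ (φ (algebraMap F R c * x ^ k)) = algebraMap F R c * x ^ k
        rw [map_mul, map_pow, hφC, hφx, map_mul, map_pow, hφC, hσ]
        congr 2
        have h1 : φ v * v = 1 := by
          conv_lhs => rw [← hφx, ← map_mul]
          rw [hφx, hvx, map_one]
        calc φ v = φ v * (v * x) := by rw [hvx, mul_one]
          _ = x := by rw [← mul_assoc, h1, one_mul]
  let bar : R ≃+* R := RingEquiv.ofRingHom φ φ (RingHom.ext hφφ) (RingHom.ext hφφ)
  set e : R := (x - 1) ^ (n - 1) with he
  have hne : e ≠ 0 := by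
    intro h
    have h' : AdjoinRoot.mk P ((X - C 1) ^ (n - 1)) = 0 := by
      rw [map_pow, map_sub, AdjoinRoot.mk_X, map_one, map_one]; exact h
    rw [AdjoinRoot.mk_eq_zero, hP] at h'
    have := natDegree_le_of_dvd h' (pow_ne_zero _ (X_sub_C_ne_zero 1))
    simp only [natDegree_pow, natDegree_X_sub_C] at this
    omega
  have hmul0 : e * (x - 1) = 0 := by
    rw [he, ← pow_succ, Nat.sub_add_cancel hn, hxn]
  have hbe : φ e = (-1 : F) ^ (n - 1) • e := by
    have h1 : v * e = e := by linear_combination -v * hmul0 + e * hvx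
    have h2 : ∀ k, v ^ k * e = e := fun k => by
      induction k with
      | zero => simp
      | succ k ih => rw [pow_succ, mul_assoc, h1, ih]
    rw [he, map_pow, map_sub, map_one, hφx, hv1, neg_mul, neg_pow, mul_pow, ← he, h2,
      Algebra.smul_def, map_pow, map_neg, map_one]
  have hsm : ∀ (c : F) (b : R), φ (c • b) = σ c • φ b := fun c b => by
    rw [Algebra.smul_def, map_mul, hφC, ← Algebra.smul_def]
  obtain ⟨c, hc⟩ := hc
  obtain ⟨f, hf⟩ : ∃ f : R →ₗ[F] F, f e = c := by
    obtain ⟨f, hf⟩ : ∃ f : R →ₗ[F] F, f e ≠ 0 := by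
      by_contra hcon
      simp only [not_exists, not_not] at hcon
      exact hne ((Module.forall_dual_apply_eq_zero_iff F _).1 hcon)
    exact ⟨(c / f e) • f, by simp [div_mul_cancel₀ _ hf]⟩
  let g : R →ₗ[F] F :=
    { toFun := fun b => f b + ε * σ (f (φ b))
      map_add' := fun x y => by simp; ring
      map_smul' := fun d b => by simp [hsm, hσ]; ring }
  have hge : g e ≠ 0 := by
    simp only [g, LinearMap.coe_mk, AddHom.coe_mk, hbe, map_smul, smul_eq_mul, hf, map_mul,
      map_pow, map_neg, map_one]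
    intro h
    exact hc (by linear_combination h)
  refine ⟨⟨bar, hφφ, hφC, g, fun b => ?_, fun b hb => ?_⟩,
    show φ x * x = 1 by rw [hφx, hvx]⟩
  · show f (φ b) + ε * σ (f (φ (φ b))) = ε * σ (f b + ε * σ (f (φ b)))
    simp only [hφφ, map_add, map_mul, hσ, hεσ]
    linear_combination -(f (φ b)) * hε
  · by_contra h0
    obtain ⟨q, rfl⟩ := AdjoinRoot.mk_surjective b
    have hq0 : q ≠ 0 := fun h => h0 (by rw [h, map_zero])
    obtain ⟨w, hw, hwdvd⟩ := exists_eq_pow_rootMultiplicity_mul_and_not_dvd q hq0 1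
    set i := q.rootMultiplicity 1
    have hi : i < n := by
      by_contra hle
      exact h0 (AdjoinRoot.mk_eq_zero.2 ((pow_dvd_pow _ (not_lt.1 hle)).trans
        (Dvd.intro _ hw.symm)))
    obtain ⟨s, t, hst⟩ := ((irreducible_X_sub_C (1 : F)).coprime_iff_not_dvd.2 hwdvd).pow_left
      (m := n)
    refine hge ?_
    have hp : (X - C (1:F)) ^ i * (X - C 1) ^ (n - 1 - i) = (X - C 1) ^ (n - 1) := by
      rw [← pow_add]; congr 1; omega
    have key : q * (t * (X - C 1) ^ (n - 1 - i)) = (X - C 1) ^ (n - 1) * (1 - s * P) := by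
      rw [hP]
      linear_combination (t * (X - C 1) ^ (n - 1 - i)) * hw + (t * w) * hp +
        (X - C 1) ^ (n - 1) * hst
    have e1 : AdjoinRoot.mk P q * AdjoinRoot.mk P (t * (X - C 1) ^ (n - 1 - i)) = e := by
      rw [← map_mul, key, map_mul, map_sub, map_mul, AdjoinRoot.mk_self, mul_zero, sub_zero]
      simp [he, hx]
    have := hb (AdjoinRoot.mk P (t * (X - C 1) ^ (n - 1 - i)))
    rw [e1] at this
    exact this

end Dat

/-- The unitary adjoint. -/
def adjU (σ : F ≃+* F) (hσ : ∀ x, σ (σ x) = x) (ι : Type*) [Fintype ι] [DecidableEq ι] :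
    Adj F ι where
  σ := σ
  σσ := hσ
  ad A := (A.map σ)ᵀ
  ad_add A B := by ext i j; simp
  ad_smul c A := by ext i j; simp
  ad_mul A B := by rw [Matrix.map_mul, Matrix.transpose_mul]
  ad_ad A := by ext i j; simp [hσ]
  charpoly_ad A := by rw [Matrix.charpoly_transpose]; exact A.charpoly_map σ.toRingHom

/-- The symplectic adjoint. -/
def adjS (F : Type*) [Field F] (l : Type*) [Fintype l] [DecidableEq l] : Adj F (l ⊕ l) where
  σ := RingEquiv.refl F
  σσ _ := rfl
  ad A := -(Matrix.J l F * Aᵀ * Matrix.J l F)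
  ad_add A B := by simp [mul_add, add_mul, add_comm]
  ad_smul c A := by simp [Matrix.smul_mul, Matrix.mul_smul]
  ad_mul A B := by
    rw [Matrix.transpose_mul, neg_mul_neg]
    simp only [mul_assoc]
    rw [← mul_assoc (Matrix.J l F) (Matrix.J l F) (Aᵀ * Matrix.J l F), Matrix.J_squared, neg_mul,
      one_mul, mul_neg, mul_neg]
  ad_ad A := by
    simp only [Matrix.transpose_neg, Matrix.transpose_mul, Matrix.transpose_transpose,
      Matrix.J_transpose, neg_mul, mul_neg, neg_neg, ← mul_assoc, Matrix.J_squared, one_mul]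
    simp only [mul_assoc, Matrix.J_squared, mul_neg, neg_neg, mul_one]
  charpoly_ad A := by
    have hu : IsUnit (Matrix.J l F) := (Matrix.isUnit_iff_isUnit_det _).2 (Matrix.isUnit_det_J l F)
    obtain ⟨u, hu⟩ := hu
    have h := Matrix.charpoly_units_conj u Aᵀ
    rw [hu, Matrix.J_inv, mul_neg, Matrix.charpoly_transpose] at h
    exact h.trans (Polynomial.map_id).symm

variable {R : Type*} [CommRing R] [Algebra F R] [FiniteDimensional F R]

/-- A Hermitian datum gives a representation compatible with the unitary adjoint. -/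
theorem exists_rep_unitary [Finite F] (hσ : ∀ x, σ (σ x) = x) (hne : σ ≠ RingEquiv.refl F) {n : ℕ}
    (D : Dat σ 1 R) (hdim : finrank F R = n) :
    ∃ Φ : R →ₐ[F] Matrix (Fin n) (Fin n) F, Function.Injective Φ ∧
      ∀ a, (adjU σ hσ (Fin n)).ad (Φ a) = Φ (D.bar a) := by
  let B : R →ₛₗ[σ.toRingHom] R →ₗ[F] F :=
    LinearMap.mk₂'ₛₗ σ.toRingHom (RingHom.id F) (fun x y => D.func (D.bar x * y))
      (fun x x' y => by simp [add_mul]) (fun c x y => by simp [D.bar_smul])
      (fun x y y' => by simp [mul_add]) (fun c x y => by simp)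
  have hS : ∀ x y, σ.toRingHom (B x y) = B y x := fun x y => by
    show σ (D.func (D.bar x * y)) = D.func (D.bar y * x)
    rw [show D.bar y * x = D.bar (D.bar x * y) by rw [map_mul, D.bar_bar, mul_comm],
      D.func_bar, one_mul]
  obtain ⟨b₀, hb₀⟩ := Forms.exists_orthonormal_basis σ.toRingHom
    (fun h => hne (RingEquiv.ext fun x => RingHom.congr_fun h x)) hσ B hS
    (fun v hv => by simpa using congrArg D.bar (D.nondeg _ fun r => hv r))
  subst hdim
  refine ⟨Algebra.leftMulMatrix b₀, Algebra.leftMulMatrix_injective b₀, fun a => ?_⟩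
  have key : ∀ (a : R) i j, Algebra.leftMulMatrix b₀ a i j = B (b₀ i) (a * b₀ j) := fun a i j => by
    rw [Algebra.leftMulMatrix_eq_repr_mul]
    conv_rhs => rw [← b₀.sum_repr (a * b₀ j), map_sum]
    simp only [map_smul, smul_eq_mul, hb₀, mul_ite, mul_one, mul_zero, Finset.sum_ite_eq,
      Finset.mem_univ, if_true]
  ext i j
  show σ (Algebra.leftMulMatrix b₀ a j i) = Algebra.leftMulMatrix b₀ (D.bar a) i j
  rw [key, key]
  refine (hS _ _).trans ?_
  show D.func (D.bar (a * b₀ i) * b₀ j) = D.func (D.bar (b₀ i) * (D.bar a * b₀ j))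
  rw [map_mul D.bar a, mul_comm (D.bar a), mul_assoc]

/-- An alternating datum gives a representation compatible with the symplectic adjoint. -/
theorem exists_rep_symplectic (h2 : (2 : F) ≠ 0) {n : ℕ} (D : Dat (RingEquiv.refl F) (-1) R)
    (hdim : finrank F R = 2 * n) :
    ∃ Φ : R →ₐ[F] Matrix (Fin n ⊕ Fin n) (Fin n ⊕ Fin n) F, Function.Injective Φ ∧
      ∀ a, (adjS F (Fin n)).ad (Φ a) = Φ (D.bar a) := by
  let B : LinearMap.BilinForm F R :=
    LinearMap.mk₂ F (fun x y => D.func (D.bar x * y))
      (fun x x' y => by simp [add_mul]) (fun c x y => by simp [D.bar_smul])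
      (fun x y y' => by simp [mul_add]) (fun c x y => by simp)
  have hB : ∀ x y, B y x = -B x y := fun x y => by
    show D.func (D.bar y * x) = -D.func (D.bar x * y)
    rw [show D.bar y * x = D.bar (D.bar x * y) by rw [map_mul, D.bar_bar, mul_comm],
      D.func_bar, neg_one_mul]
    rfl
  have hA : B.IsAlt := fun x => by
    have h := hB x x
    have h' : (2 : F) * B x x = 0 := by linear_combination h
    exact (mul_eq_zero.1 h').resolve_left h2
  obtain ⟨m, b₀, h11, h12, h22⟩ := Forms.exists_symplectic_basis_nondeg B hA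
    (fun v hv => by simpa using congrArg D.bar (D.nondeg _ fun r => hv r))
  have hm : m = n := by
    have h := (Module.finrank_eq_card_basis b₀).symm.trans hdim
    simp at h
    omega
  subst hm
  have hG : LinearMap.toMatrix₂ b₀ b₀ B = -Matrix.J (Fin m) F := by
    ext (i | i) (j | j) <;>
      simp [LinearMap.toMatrix₂_apply, Matrix.J, Matrix.fromBlocks, h11, h12, h22, Matrix.one_apply,
        hB (b₀ (.inl _)) (b₀ (.inr _)), eq_comm]
  refine ⟨Algebra.leftMulMatrix b₀, Algebra.leftMulMatrix_injective b₀, fun a => ?_⟩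
  have hcomp : B.compl₁₂ (LinearMap.mul F R a) LinearMap.id =
      B.compl₂ (LinearMap.mul F R (D.bar a)) := by
    ext x y
    show D.func (D.bar (a * x) * y) = D.func (D.bar x * (D.bar a * y))
    rw [map_mul D.bar a, mul_comm (D.bar a), mul_assoc]
  have h := congrArg (LinearMap.toMatrix₂ b₀ b₀) hcomp
  rw [LinearMap.toMatrix₂_compl₁₂ b₀ b₀, LinearMap.toMatrix₂_compl₂ b₀ b₀, hG,
    LinearMap.toMatrix_id, mul_one] at h
  set A := Algebra.leftMulMatrix b₀ a
  set A' := Algebra.leftMulMatrix b₀ (D.bar a)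
  have h' : Aᵀ * Matrix.J (Fin m) F = Matrix.J (Fin m) F * A' := by
    simpa [neg_inj, Matrix.mul_neg, Matrix.neg_mul, A, A', Algebra.leftMulMatrix_apply] using h
  show -(Matrix.J (Fin m) F * Aᵀ * Matrix.J (Fin m) F) = A'
  rw [mul_assoc, h', ← mul_assoc, Matrix.J_squared, neg_mul, one_mul, neg_neg]

end CfsgLib.FormRep
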